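import Cfsg.Agent.M24Type.Split
import Cfsg.Agent.CommClosed.Induction
import Cfsg.Agent.Fusion.GroupSystem
import Cfsg.Agent.Solvable.Basics
import Mathlib.GroupTheory.Transfer

/-!
# The abelian subgroup of order 64 is normal

The two invariant halves are commuting strongly closed subgroups, so their normal closures commute;
each then has an abelian Sylow 2-subgroup inside `A` centralized by its normalizer, and Burnside's
transfer makes it a 2-group.
-/

set_option autoImplicit false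
set_option linter.style.haveILetI false
set_option linter.unusedSectionVars false
set_option maxRecDepth 100000

namespace CfsgLib.M24Type

open Subgroup

theorem chain_facts : ∀ v, act 2 (dlt 1 v) = dlt 1 v ∧ act 2 (dlt 2 v) = dlt 2 v ∧
    dlt 1 (dlt 2 v) = 0 := by decide +kernel

theorem three_invol : mulU 2 4 = 6 ∧ mulU 2 2 = 0 ∧ mulU 4 4 = 0 ∧ mulU 6 6 = 0 := by
  decide +kernel

/-- An involution without fixed points on a finite group of automorphisms inverts it. -/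
theorem inverted {M : Type*} [Group M] {W : Subgroup M} [Finite W] {t : M} (ht : t * t = 1)
    (hn : ∀ w ∈ W, t * w * t⁻¹ ∈ W) (hfix : ∀ w ∈ W, t * w * t⁻¹ = w → w = 1) :
    ∀ w ∈ W, t * w * t⁻¹ = w⁻¹ := by
  have hti : t⁻¹ = t := inv_eq_of_mul_eq_one_right ht
  let f : W → W := fun w => ⟨(w : M)⁻¹ * (t * w * t⁻¹), mul_mem (inv_mem w.2) (hn w w.2)⟩
  have hf : Function.Injective f := fun a b h => by
    have h' : (a : M)⁻¹ * (t * a * t⁻¹) = (b : M)⁻¹ * (t * b * t⁻¹) := congrArg Subtype.val h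
    have hfx : t * ((b : M) * (a : M)⁻¹) * t⁻¹ = (b : M) * (a : M)⁻¹ := by
      calc t * ((b : M) * (a : M)⁻¹) * t⁻¹
          = (t * b * t⁻¹) * (t * a * t⁻¹)⁻¹ := by group
        _ = b * ((b : M)⁻¹ * (t * b * t⁻¹)) * ((a : M)⁻¹ * (t * a * t⁻¹))⁻¹ * (a : M)⁻¹ := by group
        _ = (b : M) * (a : M)⁻¹ := by rw [← h']; group
    exact Subtype.ext (mul_inv_eq_one.1 (hfix _ (mul_mem b.2 (inv_mem a.2)) hfx)).symm
  intro w hw
  obtain ⟨v, hv⟩ := Finite.surjective_of_injective hf ⟨w, hw⟩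
  have hv' : (v : M)⁻¹ * (t * v * t⁻¹) = w := congrArg Subtype.val hv
  rw [← hv', hti]
  calc t * ((v : M)⁻¹ * (t * v * t)) * t = t * (v : M)⁻¹ * t * v * (t * t) := by group
    _ = (t * v * t)⁻¹ * v := by rw [ht, _root_.mul_inv_rev, _root_.mul_inv_rev, hti]; group
    _ = ((v : M)⁻¹ * (t * v * t))⁻¹ := by group

/-- Orders of complementary subgroups multiply. -/
theorem card_decomp {G : Type*} [Group G] [Finite G] {H H₁ H₂ : Subgroup G} (h₁ : H₁ ≤ H)
    (h₂ : H₂ ≤ H) (hd : H₁ ⊓ H₂ = ⊥) (hdec : ∀ a ∈ H, ∃ b ∈ H₁, ∃ c ∈ H₂, a = b * c) :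
    Nat.card H₁ * Nat.card H₂ = Nat.card H := by
  rw [← Nat.card_prod]
  refine Nat.card_congr (Equiv.ofBijective
    (fun q : H₁ × H₂ => (⟨q.1 * q.2, mul_mem (h₁ q.1.2) (h₂ q.2.2)⟩ : H)) ⟨?_, ?_⟩)
  · exact fun a b h => mul_injective_of_disjoint (disjoint_iff.2 hd) (congrArg Subtype.val h)
  · rintro ⟨a, ha⟩
    obtain ⟨b, hb, c, hc, rfl⟩ := hdec a ha
    exact ⟨(⟨b, hb⟩, ⟨c, hc⟩), rfl⟩

universe u

variable {G : Type u} [Group G]

namespace Ctx

variable [Finite G] (C : Ctx G)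

theorem ρ_outer {x : Fin 8} (hx : x ≠ 0) (hxx : mulU x x = 0) : C.Outer (C.ρ x) :=
  ⟨C.ρ_mem_T x, fun ⟨v, hv⟩ => C.ρ_notMem x hx v hv.symm, by
    rw [C.ρ_mul, hxx, C.toFrame.ρ_zero]⟩

theorem ι_mem_cent_ρ (w : Fin 64) (x : Fin 8) : C.ι w ∈ C.cent (C.ρ x) ↔ act x w = w := by
  have h := C.ι_mem_cent 0 w x
  rwa [C.toFrame.ι_zero, one_mul] at h

/-- A subgroup of `A` normalized by the complement. -/
def Half (A' : Subgroup G) : Prop :=
  A' ≤ C.A ∧ (∀ x, ∀ a ∈ A', C.ρ x * a * (C.ρ x)⁻¹ ∈ A') ∧ ∃ a ∈ A', C.ρ 2 * a * (C.ρ 2)⁻¹ ≠ a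

theorem half_faithful {A' : Subgroup G} (h : C.Half A') {x : Fin 8} (hx : x ≠ 0) :
    ∃ a ∈ A', C.ρ x * a * (C.ρ x)⁻¹ ≠ a := by
  by_contra hcon
  push Not at hcon
  obtain ⟨a, ha, hne⟩ := h.2.2
  rcases normal_central x hx with rfl | ⟨w, w', hww, hz⟩
  · exact hne (hcon a ha)
  refine hne ?_
  rw [← hz, ← C.ρ_mul, ← C.ρ_mul, ← C.ρ_mul, ← C.ρ_mul, ← C.ρ_mul]
  set p := C.ρ x with hp
  set q := C.ρ w with hq
  have hq' : C.ρ w' = q⁻¹ := (inv_eq_of_mul_eq_one_right (by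
    rw [hq, C.ρ_mul, hww, C.toFrame.ρ_zero])).symm
  have hpa : ∀ b ∈ A', p * b * p⁻¹ = b := hcon
  have hqa : q⁻¹ * a * q ∈ A' := by
    have h' := h.2.1 w' a ha
    rwa [hq', inv_inv] at h'
  rw [hq']
  calc p * q * (p * p * p) * q⁻¹ * a * (p * q * (p * p * p) * q⁻¹)⁻¹
      = p * (q * (p * (p * (p * (q⁻¹ * a * q) * p⁻¹) * p⁻¹) * p⁻¹) * q⁻¹) * p⁻¹ := by group
    _ = a := by
        rw [hpa _ hqa, hpa _ hqa, hpa _ hqa, show q * (q⁻¹ * a * q) * q⁻¹ = a by group, hpa _ ha]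

theorem half_cent_ge {A' : Subgroup G} (h : C.Half A') :
    3 ≤ Nat.card (A' ⊓ C.cent (C.ρ 2) : Subgroup G) := by
  classical
  obtain ⟨a, ha, hne⟩ := h.2.2
  obtain ⟨v, rfl⟩ := h.1 ha
  have hd : ∀ x, C.ι (dlt x v) ∈ A' := fun x => by
    rw [dlt, ← C.ι_mul, ← C.toFrame.conj_ι]
    exact mul_mem (h.2.1 x _ ha) ha
  obtain ⟨h1, h2, h3⟩ := chain_facts v
  have hd2 : dlt 2 v ≠ 0 := fun e => hne (by
    have h' : C.ι (act 2 v) * C.ι v = 1 := by
      rw [C.ι_mul]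
      exact C.toFrame.ι_eq_one.2 e
    rw [C.toFrame.conj_ι, eq_inv_of_mul_eq_one_left h', C.toFrame.ι_inv])
  have hd1 : dlt 1 v ≠ 0 := fun e => hd2 (by
    rw [← dlt_square, e, dlt, act_zero_right, vadd_self])
  have hd12 : dlt 1 v ≠ dlt 2 v := fun e => hd2 (by rw [← dlt_square, e, h3])
  set s : Finset G := {1, C.ι (dlt 1 v), C.ι (dlt 2 v)} with hs
  have hcard : s.card = 3 := by
    rw [hs, Finset.card_insert_of_notMem, Finset.card_pair (fun e => hd12 (C.ι_inj e))]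
    simp only [Finset.mem_insert, Finset.mem_singleton]
    rintro (e | e)
    · exact hd1 (C.toFrame.ι_eq_one.1 e.symm)
    · exact hd2 (C.toFrame.ι_eq_one.1 e.symm)
  have hsub : ∀ g ∈ s, g ∈ A' ⊓ C.cent (C.ρ 2) := fun g hg => by
    rw [hs, Finset.mem_insert, Finset.mem_insert, Finset.mem_singleton] at hg
    rcases hg with rfl | rfl | rfl
    · exact one_mem _
    · exact ⟨hd 1, (C.ι_mem_cent_ρ _ 2).2 h1⟩
    · exact ⟨hd 2, (C.ι_mem_cent_ρ _ 2).2 h2⟩
  rw [← hcard, ← Fintype.card_coe, ← Nat.card_eq_fintype_card]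
  exact Nat.card_le_card_of_injective (fun g : s => (⟨g, hsub g g.2⟩ : (A' ⊓ C.cent (C.ρ 2) : Subgroup G)))
    fun g g' e => Subtype.ext (congrArg (fun t : (A' ⊓ C.cent (C.ρ 2) : Subgroup G) => (t : G)) e)

theorem pow_two_card {H : Subgroup G} (hH : H ≤ C.A) : ∃ k, Nat.card H = 2 ^ k := by
  haveI : Fact (Nat.Prime 2) := ⟨Nat.prime_two⟩
  exact IsPGroup.iff_card.1 (C.isPGroup_A.to_le hH)

/-- The orders of the halves and of the centralizers in them of three involutions. -/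
theorem half_cards {A₁ A₂ : Subgroup G} (h₁ : C.Half A₁) (h₂ : C.Half A₂) (hd : A₁ ⊓ A₂ = ⊥)
    (hdec : ∀ a ∈ C.A, ∃ b ∈ A₁, ∃ c ∈ A₂, a = b * c) :
    Nat.card A₁ = 8 ∧ ∀ x ∈ ({2, 4, 6} : Finset (Fin 8)),
      Nat.card (A₁ ⊓ C.cent (C.ρ x) : Subgroup G) = 4 := by
  obtain ⟨-, h22, h44, h66⟩ := three_invol
  have hinv : ∀ x ∈ ({2, 4, 6} : Finset (Fin 8)), x ≠ 0 ∧ mulU x x = 0 := by
    intro x hx
    simp only [Finset.mem_insert, Finset.mem_singleton] at hx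
    rcases hx with rfl | rfl | rfl
    exacts [⟨by decide, h22⟩, ⟨by decide, h44⟩, ⟨by decide, h66⟩]
  have hprod : ∀ x, x ≠ 0 → mulU x x = 0 →
      Nat.card (A₁ ⊓ C.cent (C.ρ x) : Subgroup G) * Nat.card (A₂ ⊓ C.cent (C.ρ x) : Subgroup G) = 16 := by
    intro x hx hxx
    rw [← (C.ρ_outer hx hxx).card_cent]
    refine card_decomp inf_le_right inf_le_right ?_ fun a ha => ?_
    · exact le_bot_iff.1 ((inf_le_inf inf_le_left inf_le_left).trans hd.le)
    · obtain ⟨hA, hax⟩ := C.mem_cent.1 ha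
      obtain ⟨b, hb, c, hc, rfl⟩ := hdec a hA
      set p := C.ρ x
      have hpb := h₁.2.1 x b hb
      have hpc := h₂.2.1 x c hc
      have heq : p * b * p⁻¹ * (p * c * p⁻¹) = b * c := by
        rw [show p * b * p⁻¹ * (p * c * p⁻¹) = p * (b * c) * p⁻¹ by group, hax,
          mul_inv_cancel_right]
      have hinj := mul_injective_of_disjoint (disjoint_iff.2 hd)
        (a₁ := (⟨_, hpb⟩, ⟨_, hpc⟩)) (a₂ := (⟨b, hb⟩, ⟨c, hc⟩)) heq
      simp only [Prod.mk.injEq, Subtype.mk.injEq] at hinj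
      exact ⟨b, ⟨hb, C.mem_cent.2 ⟨h₁.1 hb, mul_inv_eq_iff_eq_mul.1 hinj.1⟩⟩, c,
        ⟨hc, C.mem_cent.2 ⟨h₂.1 hc, mul_inv_eq_iff_eq_mul.1 hinj.2⟩⟩, rfl⟩
  have hlt : ∀ {A' : Subgroup G}, C.Half A' → ∀ x, x ≠ 0 →
      Nat.card (A' ⊓ C.cent (C.ρ x) : Subgroup G) < Nat.card A' := by
    intro A' h x hx
    refine lt_of_le_of_ne (card_le_of_le inf_le_left) fun e => ?_
    obtain ⟨a, ha, hne⟩ := C.half_faithful h hx
    have hmem : a ∈ A' ⊓ C.cent (C.ρ x) := (eq_of_le_of_card_ge inf_le_left e.ge).ge ha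
    exact hne (by rw [(C.mem_cent.1 hmem.2).2, mul_inv_cancel_right])
  have hA : Nat.card A₁ * Nat.card A₂ = 64 := by
    rw [card_decomp h₁.1 h₂.1 hd hdec, C.toFrame.card_A]
  obtain ⟨k₁, hk₁⟩ := C.pow_two_card h₁.1
  obtain ⟨k₂, hk₂⟩ := C.pow_two_card h₂.1
  obtain ⟨c₁, hc₁⟩ := C.pow_two_card (H := A₁ ⊓ C.cent (C.ρ 2)) (inf_le_left.trans h₁.1)
  obtain ⟨c₂, hc₂⟩ := C.pow_two_card (H := A₂ ⊓ C.cent (C.ρ 2)) (inf_le_left.trans h₂.1)
  have hmul : ∀ {a b n : ℕ}, (2 : ℕ) ^ a * 2 ^ b = 2 ^ n → a + b = n := fun h => by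
    rw [← pow_add] at h; exact Nat.pow_right_injective le_rfl h
  have hlt' : ∀ {a b : ℕ}, (2 : ℕ) ^ a < 2 ^ b → a < b := fun h =>
    (Nat.pow_lt_pow_iff_right one_lt_two).1 h
  have e1 := hmul (a := k₁) (b := k₂) (n := 6) (by rw [← hk₁, ← hk₂]; exact hA)
  have e2 := hmul (a := c₁) (b := c₂) (n := 4) (by rw [← hc₁, ← hc₂]; exact hprod 2 (by decide) h22)
  have l1 : 2 ≤ c₁ := by
    by_contra h
    have hle := Nat.pow_le_pow_right two_pos (show c₁ ≤ 1 by omega)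
    have := C.half_cent_ge h₁; rw [hc₁] at this; omega
  have l2 : 2 ≤ c₂ := by
    by_contra h
    have hle := Nat.pow_le_pow_right two_pos (show c₂ ≤ 1 by omega)
    have := C.half_cent_ge h₂; rw [hc₂] at this; omega
  have l3 := hlt' (hk₁ ▸ hc₁ ▸ hlt h₁ 2 (by decide))
  have l4 := hlt' (hk₂ ▸ hc₂ ▸ hlt h₂ 2 (by decide))
  have hk : k₁ = 3 ∧ k₂ = 3 := by omega
  refine ⟨by rw [hk₁, hk.1]; norm_num, fun x hx => ?_⟩
  obtain ⟨hx0, hxx⟩ := hinv x hx
  obtain ⟨d₁, hd₁⟩ := C.pow_two_card (H := A₁ ⊓ C.cent (C.ρ x)) (inf_le_left.trans h₁.1)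
  obtain ⟨d₂, hd₂⟩ := C.pow_two_card (H := A₂ ⊓ C.cent (C.ρ x)) (inf_le_left.trans h₂.1)
  have e3 := hmul (a := d₁) (b := d₂) (n := 4) (by rw [← hd₁, ← hd₂]; exact hprod x hx0 hxx)
  have l5 := hlt' (hk₁ ▸ hd₁ ▸ hlt h₁ x hx0)
  have l6 := hlt' (hk₂ ▸ hd₂ ▸ hlt h₂ x hx0)
  rw [hd₁, show d₁ = 2 by omega]
  norm_num

theorem strongly {A' : Subgroup G} (hle : A' ≤ C.A)
    (hN : ∀ n ∈ normalizer (C.A : Set G), ∀ a ∈ A', n * a * n⁻¹ ∈ A') :
    Cfsg.IsStronglyClosed A' (C.T : Subgroup G) := by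
  refine ⟨hle.trans C.A_le_T, fun x hx g hg => ?_⟩
  have hy := (closed (C := C)).2 x (hle hx) g hg
  set y := g * x * g⁻¹ with hydef
  have hA : C.A ≤ centralizer {y} := fun a ha => mem_centralizer_iff.2 fun _ e => by
    rw [Set.mem_singleton_iff.1 e]; exact C.toFrame.comm_of_mem hy ha
  have hA' : cj g C.A ≤ centralizer {y} := by
    rintro _ ⟨a, ha, rfl⟩
    refine mem_centralizer_iff.2 fun _ e => ?_
    rw [Set.mem_singleton_iff.1 e]
    show g * x * g⁻¹ * (g * a * g⁻¹) = g * a * g⁻¹ * (g * x * g⁻¹)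
    rw [show g * x * g⁻¹ * (g * a * g⁻¹) = g * (x * a) * g⁻¹ by group,
      C.toFrame.comm_of_mem (hle hx) ha]
    group
  obtain ⟨k, hk, hkg⟩ := C.align hA hA'
  have h := hN _ hkg x hx
  rwa [show k * g * x * (k * g)⁻¹ = k * y * k⁻¹ by rw [hydef]; group,
    show k * y * k⁻¹ = y by rw [← mem_centralizer_iff.1 hk y rfl, mul_inv_cancel_right]] at h

/-- An automorphism of odd order of a group of order 8 commuting with a transvection is trivial. -/
theorem odd_trivial {A₁ : Subgroup G} (hA : A₁ ≤ C.A) (h8 : Nat.card A₁ = 8) (t : MulAut A₁)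
    (ht : t * t = 1) (hc : Nat.card (t.toMonoidHom.eqLocus (MonoidHom.id A₁) : Subgroup A₁) = 4)
    (w : MulAut A₁) (hw : t * w * t⁻¹ = w) {m : ℕ} (hm : Odd m) (hwm : w ^ m = 1) : w = 1 := by
  have hsq : ∀ a : A₁, a * a = 1 := fun a => Subtype.ext (C.toFrame.sq_of_mem (hA a.2))
  have hcomm : ∀ a b : A₁, a * b = b * a := fun a b =>
    Subtype.ext (C.toFrame.comm_of_mem (hA a.2) (hA b.2))
  letI : CommGroup A₁ := { (inferInstance : Group A₁) with mul_comm := hcomm }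
  have htt : ∀ a, t (t a) = a := fun a => by rw [← MulAut.mul_apply, ht, MulAut.one_apply]
  have hwt : ∀ a, w (t a) = t (w a) := fun a => by
    have h : t * w = w * t := mul_inv_eq_iff_eq_mul.1 hw
    rw [← MulAut.mul_apply, ← h, MulAut.mul_apply]
  set K : Subgroup A₁ := t.toMonoidHom.eqLocus (MonoidHom.id A₁) with hK
  have hmemK : ∀ a, a ∈ K ↔ t a = a := fun a => Iff.rfl
  have hKidx : K.index = 2 := by
    have h := card_mul_index K
    rw [hc, h8] at h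
    omega
  let δ : A₁ →* A₁ := MonoidHom.mk' (fun a => a * t a) fun a b => by
    rw [map_mul, mul_mul_mul_comm]
  have hδker : δ.ker = K := by
    ext a
    rw [MonoidHom.mem_ker, hmemK]
    show a * t a = 1 ↔ _
    rw [mul_eq_one_iff_eq_inv', inv_eq_of_mul_eq_one_right (hsq a)]
  have hD : Nat.card δ.range = 2 := by rw [← index_ker, hδker, hKidx]
  have hDK : ∀ d ∈ δ.range, d ∈ K := by
    rintro _ ⟨a, rfl⟩
    rw [hmemK]
    show t (a * t a) = a * t a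
    rw [map_mul, htt, mul_comm]
  have hDfix : ∀ d ∈ δ.range, w d = d := by
    intro d hd
    obtain ⟨d₀, hd₀, huniq⟩ := (Nat.card_eq_two_iff' (1 : δ.range)).1 hD
    by_cases h1 : d = 1
    · rw [h1, map_one]
    obtain ⟨a, rfl⟩ := id hd
    have hwd : w (δ a) ∈ δ.range := ⟨w a, by
      show w a * t (w a) = w (a * t a)
      rw [map_mul, hwt]⟩
    have hne : w (δ a) ≠ 1 := fun e => h1 (w.injective (e.trans (map_one w).symm))
    exact congrArg Subtype.val ((huniq ⟨_, hwd⟩ fun e => hne (congrArg Subtype.val e)).trans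
      (huniq ⟨_, hd⟩ fun e => h1 (congrArg Subtype.val e)).symm)
  have hwK : ∀ a ∈ K, w a ∈ K := fun a ha => by
    rw [hmemK] at ha ⊢
    rw [← hwt, ha]
  set D' := δ.range.subgroupOf K with hD'
  have hD'idx : D'.index = 2 := by
    have h := card_mul_index D'
    rw [Nat.card_congr (subgroupOfEquivOfLe hDK).toEquiv, hD, hc] at h
    omega
  have hKmove : ∀ a ∈ K, w a * a ∈ δ.range := by
    intro a ha
    by_cases h : a ∈ δ.range
    · rw [hDfix a h]; exact mul_mem h h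
    · have h' : w a ∉ δ.range := fun e => h (by
        have := hDfix _ e
        rw [w.injective this] at e
        exact e)
      exact mem_subgroupOf.1 ((mul_mem_iff_of_index_two hD'idx (a := ⟨w a, hwK a ha⟩)
        (b := ⟨a, ha⟩)).2 (iff_of_false (fun e => h' (mem_subgroupOf.1 e))
          (fun e => h (mem_subgroupOf.1 e))))
  have hw2K : ∀ a ∈ K, w (w a) = a := fun a ha => by
    have h := hKmove a ha
    have e : w a = w a * a * a := by rw [mul_assoc, hsq, mul_one]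
    conv_lhs => rw [e, map_mul, hDfix _ h, mul_comm (w a), mul_assoc, hsq, mul_one]
  have hwaK : ∀ a, w a * a ∈ K := by
    intro a
    by_cases h : a ∈ K
    · exact mul_mem (hwK a h) h
    · have h' : w a ∉ K := fun e => h (by
        have e2 := hw2K _ e
        exact w.injective e2 ▸ hwK _ e)
      exact (mul_mem_iff_of_index_two hKidx).2 (iff_of_false h' h)
  have h4 : ∀ a, w (w (w (w a))) = a := by
    intro a
    set c := w a * a with hc'
    have hcK : c ∈ K := hwaK a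
    have hw1 : w a = a * c := by rw [hc', mul_comm (w a), ← mul_assoc, hsq, one_mul]
    set d := w c * c with hd'
    have hd : d ∈ δ.range := hKmove c hcK
    have hw2 : w (w a) = a * d := by rw [hw1, map_mul, hw1, hd', mul_assoc, mul_comm c]
    rw [hw2, map_mul, hDfix d hd, map_mul, hDfix d hd, hw2, mul_assoc, hsq, mul_one]
  have hw4 : w ^ 4 = 1 := MulEquiv.ext fun a => h4 a
  obtain ⟨j, hj⟩ := hm
  have hco : Nat.Coprime 4 m := by
    rw [show (4 : ℕ) = 2 ^ 2 by norm_num]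
    exact (Nat.prime_two.coprime_iff_not_dvd.2 (by omega)).pow_left 2
  rw [← orderOf_eq_one_iff]
  exact Nat.eq_one_of_dvd_coprimes hco (orderOf_dvd_of_pow_eq_one hw4)
    (orderOf_dvd_of_pow_eq_one hwm)

/-- The normal closure of a half lies in `A`. -/
theorem closure_le_A (hO : Cfsg.oddCore G = ⊥) {A₁ A₂ : Subgroup G}
    (hN₁ : ∀ n ∈ normalizer (C.A : Set G), ∀ a ∈ A₁, n * a * n⁻¹ ∈ A₁)
    (hN₂ : ∀ n ∈ normalizer (C.A : Set G), ∀ a ∈ A₂, n * a * n⁻¹ ∈ A₂)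
    (h₁ : C.Half A₁) (h₂ : C.Half A₂) (hd : A₁ ⊓ A₂ = ⊥)
    (hdec : ∀ a ∈ C.A, ∃ b ∈ A₁, ∃ c ∈ A₂, a = b * c) :
    normalClosure (A₁ : Set G) ≤ C.A := by
  classical
  haveI : Fact (Nat.Prime 2) := ⟨Nat.prime_two⟩
  have hgen : ∀ {A' : Subgroup G}, A' ≤ C.A → A' ≤ closure {x | x ∈ A' ∧ orderOf x = 2} :=
    fun hA' x hx => by
      by_cases h : x = 1
      · subst h; exact one_mem _
      · exact subset_closure ⟨hx, orderOf_eq_prime (by rw [sq]; exact C.toFrame.sq_of_mem (hA' hx)) h⟩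
  have hcl₁ := C.strongly h₁.1 hN₁
  have hcomm := CfsgLib.CommClosed.normalClosure_comm hO C.T hcl₁ (C.strongly h₂.1 hN₂)
    (fun a ha b hb => C.toFrame.comm_of_mem (h₁.1 ha) (h₂.1 hb)) hd (hgen h₁.1) (hgen h₂.1)
  set M := normalClosure (A₁ : Set G) with hM
  have hA₁M : A₁ ≤ M := subset_normalClosure
  have hMA₂ : ∀ x ∈ M, ∀ a ∈ A₂, x * a = a * x := fun x hx a ha =>
    hcomm x hx a (subset_normalClosure ha)
  set T₁ := (C.T : Subgroup G) ⊓ M with hT₁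
  have hT₁A : T₁ ≤ C.A := by
    rintro g ⟨hgT, hgM⟩
    obtain ⟨v, x, rfl⟩ := C.nf hgT
    refine C.toFrame.nf_mem_A.2 ?_
    by_contra hx
    obtain ⟨a, ha, hne⟩ := C.half_faithful h₂ hx
    obtain ⟨w, rfl⟩ := h₂.1 ha
    refine hne ?_
    have h := mul_inv_eq_iff_eq_mul.2 (hMA₂ _ hgM _ ha)
    rw [C.toFrame.nf_conj] at h
    rw [C.toFrame.conj_ι, h]
  have hA₁T : A₁ ≤ T₁ := fun a ha => ⟨C.A_le_T (h₁.1 ha), hA₁M ha⟩
  have hMn : M.Normal := normalClosure_normal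
  have hST : CfsgLib.Fusion.SylowIn 2 (C.T : Subgroup G) ⊤ := ⟨le_top, C.T.subtype le_top, rfl⟩
  obtain ⟨hle, R, hR⟩ := hST.inf_normal (N := M) le_top
    (fun g _ => by rw [normalizer_eq_top]; trivial)
  -- the normalizer of `T₁` in `M` acts trivially on the half
  set K := M ⊓ normalizer (T₁ : Set G) with hK
  have hnA₁ : ∀ n ∈ K, ∀ a ∈ A₁, n * a * n⁻¹ ∈ A₁ := fun n hn a ha =>
    hcl₁.2 a ha n (((mem_normalizer_iff.1 hn.2 a).1 (hA₁T ha)).1)
  set L := normalizer (A₁ : Set G) with hL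
  have hKL : K ≤ L := fun n hn => mem_normalizer_of_cj_eq (eq_of_le_of_card_ge
    (by rintro _ ⟨a, ha, rfl⟩; exact hnA₁ n hn a ha) (card_cj _ _).ge)
  have hρL : ∀ x, C.ρ x ∈ L := fun x => mem_normalizer_of_cj_eq (eq_of_le_of_card_ge
    (by rintro _ ⟨a, ha, rfl⟩; exact h₁.2.1 x a ha) (card_cj _ _).ge)
  let ψ : L →* MulAut A₁ := MonoidHom.mk'
    (fun n =>
      { toFun := fun x => ⟨n * x * (n : G)⁻¹, (mem_normalizer_iff.1 n.2 _).1 x.2⟩
        invFun := fun x => ⟨(n : G)⁻¹ * x * n, by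
          have h := (mem_normalizer_iff.1 (inv_mem n.2) _).1 x.2
          rwa [inv_inv] at h⟩
        left_inv := fun x => Subtype.ext (by simp [mul_assoc])
        right_inv := fun x => Subtype.ext (by simp [mul_assoc])
        map_mul' := fun x y => Subtype.ext (by simp [mul_assoc]) })
    fun n m => MulEquiv.ext fun x => Subtype.ext (by simp [mul_assoc])
  have hψ : ∀ (n : L) (x : A₁), ((ψ n x : A₁) : G) = n * x * (n : G)⁻¹ := fun _ _ => rfl
  set W := (K.subgroupOf L).map ψ with hW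
  have hTK : T₁ ≤ K := le_inf inf_le_right Subgroup.le_normalizer
  have hWodd : Odd (Nat.card W) := by
    let φ : K →* MulAut A₁ := ψ.comp (Subgroup.inclusion hKL)
    have hran : φ.range = W := by
      rw [hW, MonoidHom.range_comp, Subgroup.inclusion_range]
    have hker : T₁.subgroupOf K ≤ φ.ker := fun t ht => MulEquiv.ext fun a => Subtype.ext (by
      show (t : G) * a * (t : G)⁻¹ = a
      have htA : (t : G) ∈ C.A := hT₁A ht
      rw [C.toFrame.comm_of_mem htA (h₁.1 a.2), mul_inv_cancel_right])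
    rw [← hran, ← index_ker, ← Nat.not_even_iff_odd, even_iff_two_dvd]
    intro h
    have h1 : 2 ∣ T₁.relIndex K := h.trans (index_dvd_of_le hker)
    have h2 : 2 ∣ T₁.relIndex M := h1.trans (Dvd.intro _ (relIndex_mul_relIndex T₁ K M hTK inf_le_left))
    exact R.not_dvd_index (by rwa [hR])
  obtain ⟨h8, h4⟩ := C.half_cards h₁ h₂ hd hdec
  obtain ⟨m246, h22, h44, h66⟩ := three_invol
  let t : Fin 8 → MulAut A₁ := fun x => ψ ⟨C.ρ x, hρL x⟩
  have htmul : ∀ x y, t x * t y = t (mulU x y) := fun x y => by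
    show ψ _ * ψ _ = ψ _
    rw [← map_mul]
    exact congrArg ψ (Subtype.ext (C.ρ_mul x y))
  have ht0 : t 0 = 1 := by
    show ψ _ = 1
    rw [← map_one ψ]
    exact congrArg ψ (Subtype.ext C.toFrame.ρ_zero)
  have hWn : ∀ x, ∀ w ∈ W, t x * w * (t x)⁻¹ ∈ W := by
    rintro x _ ⟨n, hn, rfl⟩
    refine ⟨⟨C.ρ x, hρL x⟩ * n * ⟨C.ρ x, hρL x⟩⁻¹, ?_, by rw [map_mul, map_mul, map_inv]⟩
    have hxT : C.ρ x ∈ normalizer (T₁ : Set G) := mem_normalizer_of_cj_eq (eq_of_le_of_card_ge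
      (by
        rintro _ ⟨s, hs, rfl⟩
        exact mem_inf.2 ⟨mul_mem (mul_mem (C.ρ_mem_T x) hs.1) (inv_mem (C.ρ_mem_T x)),
          hMn.conj_mem _ hs.2 _⟩) (card_cj _ _).ge)
    exact mem_inf.2 ⟨hMn.conj_mem _ hn.1 _, mul_mem (mul_mem hxT hn.2) (inv_mem hxT)⟩
  have hfix : ∀ x ∈ ({2, 4, 6} : Finset (Fin 8)), mulU x x = 0 →
      ∀ w ∈ W, t x * w * (t x)⁻¹ = w → w = 1 := by
    intro x hx hxx w hw hcx
    refine C.odd_trivial h₁.1 h8 (t x) (by rw [htmul, hxx, ht0]) ?_ w hcx hWodd ?_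
    · rw [← h4 x hx]
      refine Nat.card_congr
        { toFun := fun a => ⟨(a.1 : G), a.1.2, C.mem_cent.2 ⟨h₁.1 a.1.2, by
            have h := congrArg Subtype.val a.2
            exact mul_inv_eq_iff_eq_mul.1 h⟩⟩
          invFun := fun a => ⟨⟨(a : G), a.2.1⟩, Subtype.ext (by
            show C.ρ x * (a : G) * (C.ρ x)⁻¹ = a
            rw [(C.mem_cent.1 a.2.2).2, mul_inv_cancel_right])⟩
          left_inv := fun a => rfl
          right_inv := fun a => rfl }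
    · have h : (⟨w, hw⟩ : W) ^ Nat.card W = 1 := pow_card_eq_one'
      exact congrArg Subtype.val h
  have hW1 : ∀ w ∈ W, w = 1 := by
    intro w hw
    have i2 := inverted (by rw [htmul, h22, ht0]) (hWn 2) (hfix 2 (by simp) h22)
    have i4 := inverted (by rw [htmul, h44, ht0]) (hWn 4) (hfix 4 (by simp) h44)
    refine hfix 6 (by simp) h66 w hw ?_
    rw [← m246, ← htmul, show t 2 * t 4 * w * (t 2 * t 4)⁻¹ = t 2 * (t 4 * w * (t 4)⁻¹) * (t 2)⁻¹ by
      group, i4 w hw, i2 _ (inv_mem hw), inv_inv]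
  have hcentK : ∀ n ∈ K, ∀ s ∈ T₁, n * s = s * n := by
    intro n hn s hs
    obtain ⟨b, hb, c, hc, rfl⟩ := hdec s (hT₁A hs)
    have hnb : n * b = b * n := by
      have h := hW1 _ ⟨⟨n, hKL hn⟩, hn, rfl⟩
      have h' := congrArg (fun f : MulAut A₁ => ((f ⟨b, hb⟩ : A₁) : G)) h
      exact mul_inv_eq_iff_eq_mul.1 h'
    rw [← mul_assoc, hnb, mul_assoc, hMA₂ n hn.1 c hc, mul_assoc]
  -- Burnside's transfer
  have hP : normalizer (R : Subgroup M) ≤ centralizer ((R : Subgroup M) : Set M) := by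
    intro n hn
    refine mem_centralizer_iff.2 fun s hs => ?_
    have hsT : (s : G) ∈ T₁ := by
      have : s ∈ (T₁.subgroupOf M) := hR ▸ hs
      exact this
    have hnN : (n : G) ∈ normalizer (T₁ : Set G) := mem_normalizer_of_cj_eq (eq_of_le_of_card_ge
      (by
        rintro _ ⟨r, hr, rfl⟩
        have h : (⟨r, hr.2⟩ : M) ∈ (R : Subgroup M) := by rw [hR]; exact hr
        have h' := (mem_normalizer_iff.1 hn _).1 h
        rw [hR] at h'
        exact h') (card_cj _ _).ge)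
    exact Subtype.ext (hcentK n ⟨n.2, hnN⟩ s hsT).symm
  set Q := (MonoidHom.transferSylow R hP).ker with hQ
  have hQodd : ¬ 2 ∣ Nat.card Q := MonoidHom.not_dvd_card_ker_transferSylow R hP
  set Q' := Q.map M.subtype with hQ'
  have hQmem : ∀ x : M, (orderOf x).Coprime 2 → x ∈ Q := by
    intro x hx
    rw [hQ, MonoidHom.mem_ker, ← orderOf_eq_one_iff]
    refine Nat.eq_one_of_dvd_coprimes ?_ (orderOf_map_dvd _ x) (orderOf_dvd_natCard _)
    obtain ⟨k, hk⟩ := IsPGroup.iff_card.1 R.isPGroup'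
    rw [hk]
    exact hx.pow_right k
  have hQn : Q'.Normal := ⟨by
    rintro _ ⟨q, hq, rfl⟩ g
    refine ⟨⟨g * q * g⁻¹, hMn.conj_mem _ q.2 g⟩, hQmem _ ?_, rfl⟩
    rw [← orderOf_injective M.subtype M.subtype_injective]
    show (orderOf (g * (q : G) * g⁻¹)).Coprime 2
    rw [show orderOf (g * (q : G) * g⁻¹) = orderOf (q : G) from
      orderOf_injective (MulAut.conj g).toMonoidHom (MulAut.conj g).injective _]
    have hdvd : orderOf (q : G) ∣ Nat.card Q := by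
      rw [Subgroup.orderOf_coe, ← Subgroup.orderOf_mk q hq]
      exact orderOf_dvd_natCard _
    exact Nat.Coprime.coprime_dvd_left hdvd
      ((Nat.prime_two.coprime_iff_not_dvd.2 hQodd).symm)⟩
  have hQ1 : Q = ⊥ := by
    have hle' : Q' ≤ Cfsg.oddCore G := CfsgLib.Solvable.le_pPrimeCore 2 hQn (by
      rw [hQ', card_map_of_injective M.subtype_injective]
      exact (Nat.prime_two.coprime_iff_not_dvd.2 hQodd).symm)
    rw [hO, le_bot_iff, hQ', map_eq_bot_iff_of_injective _ M.subtype_injective] at hle'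
    exact hle'
  have hc := MonoidHom.ker_transferSylow_isComplement' R hP
  rw [← hQ, hQ1] at hc
  have htop : (R : Subgroup M) = ⊤ := isComplement'_bot_left.1 hc
  intro x hx
  have hxR : (⟨x, hx⟩ : M) ∈ (R : Subgroup M) := htop.ge (mem_top _)
  rw [hR] at hxR
  exact hT₁A hxR

/-- The abelian subgroup is normal. -/
theorem normal_A (hO : Cfsg.oddCore G = ⊥) : C.A.Normal := by
  obtain ⟨A₁, A₂, hle₁, hle₂, hN₁, hN₂, hd, hdec, hz₁, hz₂⟩ := C.exists_split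
  have hρN : ∀ x, C.ρ x ∈ normalizer (C.A : Set G) := fun x => C.T_le_normalizer (C.ρ_mem_T x)
  have h₁ : C.Half A₁ := ⟨hle₁, fun x => hN₁ _ (hρN x), hz₁⟩
  have h₂ : C.Half A₂ := ⟨hle₂, fun x => hN₂ _ (hρN x), hz₂⟩
  have hdec' : ∀ a ∈ C.A, ∃ b ∈ A₂, ∃ c ∈ A₁, a = b * c := fun a ha => by
    obtain ⟨b, hb, c, hc, rfl⟩ := hdec a ha
    exact ⟨c, hc, b, hb, C.toFrame.comm_of_mem (hle₁ hb) (hle₂ hc)⟩
  have hM₁ := C.closure_le_A hO hN₁ hN₂ h₁ h₂ hd hdec
  have hM₂ := C.closure_le_A hO hN₂ hN₁ h₂ h₁ (inf_comm A₁ A₂ ▸ hd) hdec'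
  have heq : C.A = normalClosure (A₁ : Set G) ⊔ normalClosure (A₂ : Set G) := by
    refine le_antisymm (fun a ha => ?_) (sup_le hM₁ hM₂)
    obtain ⟨b, hb, c, hc, rfl⟩ := hdec a ha
    exact mul_mem (mem_sup_left (subset_normalClosure hb)) (mem_sup_right (subset_normalClosure hc))
  rw [heq]
  infer_instance

end Ctx

/-- With a frame for the Sylow subgroup, the unique abelian subgroup of order 64 is normal. -/
theorem abelian_normal [Finite G] (hO : Cfsg.oddCore G = ⊥) (S : Sylow 2 G) (F : Frame G)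
    (hF : F.S = (S : Subgroup G)) (A : Subgroup G)
    (huniq : ∀ B : Subgroup G, B ≤ (S : Subgroup G) → IsMulCommutative B → Nat.card B = 64 → B = A) :
    A.Normal := by
  have hFA : F.A = A := huniq F.A (hF ▸ F.A_le)
    ⟨⟨fun a b => Subtype.ext (F.comm_of_mem a.2 b.2)⟩⟩ F.card_A
  let C : Ctx G :=
    { F with
      T := S
      hT := hF
      uniq := fun B hB hc hcard => (huniq B hB ⟨⟨fun a b => Subtype.ext (hc a a.2 b b.2)⟩⟩ hcard).trans
        hFA.symm }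
  have h : C.A.Normal := C.normal_A hO
  exact hFA ▸ h

end CfsgLib.M24Type
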