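import Mathlib.GroupTheory.Sylow
import Mathlib.Data.ZMod.Basic

/-!
# A model of the Sylow 2-subgroup of the group of degree 24 modulo its centre

The group is `2^6` extended by a dihedral group of order 8: a vector is a number below 64, the sum
is the bitwise exclusive or, the dihedral group is numbered by `k + 4 j` for `r^k a^j`. The bits
`0,1,2` and `3,4,5` span the two modules of dimension three.
-/

set_option autoImplicit false
set_option maxRecDepth 100000

namespace CfsgLib.M24Type

/-- Sum of vectors. -/
def vadd (a b : Fin 64) : Fin 64 := ⟨(a.1 ^^^ b.1) % 64, Nat.mod_lt _ (by norm_num)⟩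

/-- The multiplication of the dihedral group of order 8. -/
def mulU (x y : Fin 8) : Fin 8 :=
  ⟨((if x.1 < 4 then x.1 + y.1 % 4 else x.1 + 4 - y.1 % 4) % 4 +
    (if (x.1 < 4) = (y.1 < 4) then 0 else 4)) % 8, Nat.mod_lt _ (by norm_num)⟩

/-- The images of the six basis vectors. -/
def actTab : List (List Nat) :=
  [[1, 2, 4, 8, 16, 32], [1, 3, 7, 8, 24, 48], [1, 2, 5, 8, 16, 40], [1, 3, 6, 8, 24, 56],
   [1, 3, 4, 8, 16, 48], [1, 2, 7, 8, 24, 40], [1, 3, 5, 8, 16, 56], [1, 2, 6, 8, 24, 32]]

/-- The exclusive or of the images selected by the bits. -/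
def combine (row : List Nat) (v : Nat) : Nat :=
  ((List.range 6).map fun i => if v.testBit i then row.getD i 0 else 0).foldl (· ^^^ ·) 0

/-- The action of the dihedral group on the vectors. -/
def act (u : Fin 8) (v : Fin 64) : Fin 64 :=
  ⟨combine (actTab.getD u.1 []) v.1 % 64, Nat.mod_lt _ (by norm_num)⟩

/-- The commutator of an element of the dihedral group with a vector. -/
def dlt (u : Fin 8) (v : Fin 64) : Fin 64 := vadd (act u v) v

/-- The projection onto the first module. -/
def proj (v : Fin 64) : Fin 64 := ⟨v.1 % 8, by omega⟩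

/-- The map determined by the images of the third vectors of the two modules. -/
def endo (p q v : Fin 64) : Fin 64 :=
  ⟨combine [(dlt 4 (dlt 7 p)).1, (dlt 7 p).1, p.1, (dlt 7 (dlt 4 q)).1, (dlt 4 q).1, q.1] v.1 % 64,
    Nat.mod_lt _ (by norm_num)⟩

theorem vadd_comm : ∀ a b, vadd a b = vadd b a := by decide +kernel

theorem vadd_self : ∀ a, vadd a a = 0 := by decide +kernel

theorem vadd_zero : ∀ a, vadd a 0 = a := by decide +kernel

theorem act_zero_left : ∀ v, act 0 v = v := by decide +kernel

theorem act_zero_right : ∀ u, act u 0 = 0 := by decide +kernel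

theorem act_act : ∀ u w v, act u (act w v) = act (mulU u w) v := by decide +kernel

theorem act_vadd : ∀ u v w, act u (vadd v w) = vadd (act u v) (act u w) := by decide +kernel

theorem mulU_zero : ∀ u, mulU u 0 = u ∧ mulU 0 u = u := by decide +kernel

theorem mulU_inv : ∀ u, ∃ w, mulU u w = 0 ∧ mulU w u = 0 := by decide +kernel

theorem mulU_cancel : ∀ a b c : Fin 8, mulU a c = 0 → mulU b c = 0 → a = b := by decide +kernel

theorem proj_vadd : ∀ v w, proj (vadd v w) = vadd (proj v) (proj w) := by decide +kernel

theorem dlt_vadd : ∀ u v w, dlt u (vadd v w) = vadd (dlt u v) (dlt u w) := by decide +kernel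

theorem proj_act : ∀ u v, proj (act u v) = act u (proj v) := by decide +kernel

theorem act_faithful : ∀ u, (∀ v, act u v = v) → u = 0 := by decide +kernel

/-- An involution fixes 16 vectors and has two different nonzero commutators. -/
theorem invol_facts : ∀ u, u ≠ 0 → mulU u u = 0 →
    ((List.finRange 64).filter fun v => decide (act u v = v)).length = 16 ∧
      ∃ v w, dlt u v ≠ 0 ∧ dlt u w ≠ 0 ∧ dlt u v ≠ dlt u w := by decide +kernel

/-- Elements commuting with an involution: the squares fix its fixed vectors, they fix its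
commutators. -/
theorem commuting_facts : ∀ u w, u ≠ 0 → mulU u u = 0 → mulU u w = mulU w u →
    (∀ v, act u v = v → act (mulU w w) v = v) ∧ ∀ v, act w (dlt u v) = dlt u v := by decide +kernel

/-- The fixed vectors of an involution determine it. -/
theorem fixed_determine : ∀ u w, u ≠ 0 → mulU u u = 0 →
    (∀ v, act u v = v → act w v = v) → w = 0 ∨ w = u := by decide +kernel

/-- Two commuting involutions fix at most eight vectors in common. -/
theorem common_fixed : ∀ u w, u ≠ 0 → w ≠ 0 → u ≠ w → mulU u u = 0 → mulU w w = 0 →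
    mulU u w = mulU w u →
    ((List.finRange 64).filter fun v => decide (act u v = v ∧ act w v = v)).length ≤ 8 := by
  decide +kernel

/-- The vectors fixed by all are the commutators of the central involution. -/
theorem fixed_all : ∀ v, (∀ u, act u v = v) ↔ v = 0 ∨ v = 1 ∨ v = 8 ∨ v = 9 := by decide +kernel

theorem dlt_central : ∀ v, dlt 2 v = 0 ∨ dlt 2 v = 1 ∨ dlt 2 v = 8 ∨ dlt 2 v = 9 := by
  decide +kernel

theorem central_values : (dlt 2 4 = 1 ∧ dlt 2 32 = 8) ∧ proj 1 = 1 ∧ proj 8 = 0 ∧
    proj (0 : Fin 64) = 0 := by decide +kernel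

/-- The fixed vectors of the centre's commutator and the square of an element of order 4. -/
theorem dlt_square : ∀ v, dlt 1 (dlt 1 v) = dlt 2 v := by decide +kernel

/-- Every nontrivial normal subgroup contains the central involution. -/
theorem normal_central : ∀ u, u ≠ 0 → u = 2 ∨
    ∃ w w', mulU w w' = 0 ∧ mulU (mulU (mulU u w) (mulU (mulU u u) u)) w' = 2 := by decide +kernel

/-- The endomorphism of the dihedral group with given images of the generators. -/
def autU (p q x : Fin 8) : Fin 8 :=
  let r := mulU p q
  let rk : Fin 8 :=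
    if x.1 % 4 = 0 then 0 else if x.1 % 4 = 1 then r
      else if x.1 % 4 = 2 then mulU r r else mulU (mulU r r) r
  if x.1 < 4 then rk else mulU rk p

theorem autU_self : ∀ x, autU 4 7 x = x := by decide +kernel

theorem autU_four : ∀ p q, mulU p p = 0 → mulU q q = 0 → p ≠ q → mulU p q ≠ mulU q p →
    ∀ x, autU p q (autU p q (autU p q (autU p q x))) = x := by decide +kernel

/-- An equivariant map is given by the images of the two top vectors. -/
theorem basis_values : dlt 4 2 = 1 ∧ dlt 7 4 = 2 ∧ dlt 7 16 = 8 ∧ dlt 4 32 = 16 ∧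
    act 4 4 = 4 ∧ act 7 32 = 32 := by decide +kernel

/-- An equivariant map injective on the fixed vectors has order dividing four. -/
theorem endo_order : ∀ p q, act 4 p = p → act 7 q = q → endo p q 1 ≠ 0 → endo p q 8 ≠ 0 →
    endo p q 9 ≠ 0 →
    ∀ i ∈ [1, 2, 4, 8, 16, 32].map (Fin.ofNat 64),
      endo p q (endo p q (endo p q (endo p q i))) = i := by decide +kernel

end CfsgLib.M24Type
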