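import Cfsg.Agent.Golay.SylowQuot.Main

/-!
# The centre of a Sylow 2-subgroup of the Mathieu group of degree 24
-/

set_option autoImplicit false

namespace CfsgLib.M24Type

open Cfsg CfsgLib.Golay CfsgLib.Golay.SylowCert CfsgLib.Golay.SylowQuot

/-- The centre of a Sylow 2-subgroup of the Mathieu group of degree 24 has order two. -/
theorem card_centre_sylow (P : Sylow 2 ↥Cfsg.M24) :
    Nat.card (Subgroup.center ↥(P : Subgroup ↥Cfsg.M24)) = 2 := by
  classical
  haveI : Fact (Nat.Prime 2) := ⟨Nat.prime_two⟩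
  have hle : P0 ≤ Cfsg.M24 := by
    have h := pcGroup_le pcQ (T := Cfsg.M24) fun g hg =>
      permL_mem_M24 (pcQ.1 g hg).1 (pcQ.1 g hg).2 (qPc_preserves g hg)
    rwa [qPc_length] at h
  have hcard : Nat.card (P0.comap Cfsg.M24.subtype) = 2 ^ (Nat.card Cfsg.M24).factorization 2 := by
    rw [← Subgroup.card_map_of_injective (f := Cfsg.M24.subtype) Cfsg.M24.subtype_injective,
      Subgroup.map_comap_eq, Subgroup.range_subtype, inf_eq_right.2 hle,
      factorization_two (a := 10) (m := 239085) (by rw [card_M24]; norm_num) (by norm_num)]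
    exact card_pcGroup pcQ 10 qPc_length.ge
  set Q : Sylow 2 Cfsg.M24 := Sylow.ofCard _ hcard
  rw [← Nat.card_congr (Subgroup.centerCongr (Q.equiv P)).toEquiv]
  have hmem : ∀ x : (Q : Subgroup Cfsg.M24), ((x : Cfsg.M24) : Equiv.Perm GolayPt) ∈ P0 := fun x => x.2
  have hzQ : (⟨zP, hle zP_mem⟩ : Cfsg.M24) ∈ (Q : Subgroup Cfsg.M24) := zP_mem
  set xz : (Q : Subgroup Cfsg.M24) := ⟨⟨zP, hle zP_mem⟩, hzQ⟩
  have hZ : (Subgroup.center (Q : Subgroup Cfsg.M24) : Set (Q : Subgroup Cfsg.M24)) = {1, xz} := by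
    ext x
    rw [SetLike.mem_coe, Subgroup.mem_center_iff, Set.mem_insert_iff, Set.mem_singleton_iff]
    constructor
    · intro h
      rcases (center_iff (hmem x)).1 (fun τ hτ => (congrArg (fun y : (Q : Subgroup Cfsg.M24) =>
        ((y : Cfsg.M24) : Equiv.Perm GolayPt)) (h ⟨⟨τ, hle hτ⟩, hτ⟩)).symm) with e | e
      · exact Or.inl (Subtype.ext (Subtype.ext e))
      · exact Or.inr (Subtype.ext (Subtype.ext e))
    · intro h y
      have e := (center_iff (hmem x)).2 (h.imp
        (fun e => by rw [e]; rfl) (fun e => by rw [e])) _ (hmem y)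
      exact Subtype.ext (Subtype.ext e.symm)
  rw [← SetLike.coe_sort_coe, Nat.card_coe_set_eq, hZ, Set.ncard_pair]
  exact fun h => zP_ne_one (congrArg (fun y : (Q : Subgroup Cfsg.M24) =>
    ((y : Cfsg.M24) : Equiv.Perm GolayPt)) h).symm

end CfsgLib.M24Type
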