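import Cfsg.Agent.M24Type.Frame
import Cfsg.Agent.M24Type.CertData
import Cfsg.Agent.Golay.SylowQuot.Main

/-!
# A Sylow 2-subgroup of the group of degree 24 modulo its centre is the model
-/

set_option autoImplicit false
set_option maxRecDepth 100000
set_option Elab.async false
set_option linter.style.haveILetI false

namespace CfsgLib.M24Type

open Cfsg CfsgLib.Golay CfsgLib.Golay.SylowCert CfsgLib.Golay.SylowQuot

/-- The representative of a vector. -/
def iL (v : Fin 64) : List Nat := iTab.getD v.1 []

/-- The representative of an element of the complement. -/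
def rL (x : Fin 8) : List Nat := rTab.getD x.1 []

/-- Equality modulo the central involution. -/
def eqZ (a b : List Nat) : Bool := a == b || a == compL zT b

theorem zT_eq : zL = zT := by decide +kernel

theorem iL_ok : ∀ v, Good (iL v) ∧ (iL v).length = 24 ∧ iL v ∈ els qPc 10 := by decide +kernel

theorem rL_ok : ∀ x, Good (rL x) ∧ (rL x).length = 24 ∧ rL x ∈ els qPc 10 := by decide +kernel

theorem iL_mul : ∀ v w, eqZ (compL (iL v) (iL w)) (iL (vadd v w)) = true := by decide +kernel

theorem rL_mul : ∀ x y, eqZ (compL (rL x) (rL y)) (rL (mulU x y)) = true := by decide +kernel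

theorem rL_iL : ∀ x v, eqZ (compL (rL x) (iL v)) (compL (iL (act x v)) (rL x)) = true := by
  decide +kernel

theorem iL_inj : ∀ v w, eqZ (iL v) (iL w) = true → v = w := by decide +kernel

theorem rL_notMem : ∀ x, x ≠ 0 → ∀ v, eqZ (rL x) (iL v) = false := by decide +kernel

/-- A group embedded onto the Sylow subgroup of the code is the model modulo its centre. -/
theorem exists_frame_of_embedding {P : Type*} [Group P] [Finite P] (φ : P →* Equiv.Perm GolayPt)
    (hφ : Function.Injective φ) (hr : φ.range = P0) :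
    ∃ F : Frame (P ⧸ Subgroup.center P), F.S = ⊤ := by
  classical
  set π := QuotientGroup.mk' (Subgroup.center P) with hπ
  have hin : ∀ x, φ x ∈ P0 := fun x => hr ▸ ⟨x, rfl⟩
  have hZ : ∀ x, x ∈ Subgroup.center P ↔ φ x = 1 ∨ φ x = zP := by
    intro x
    rw [← center_iff (hin x), Subgroup.mem_center_iff]
    constructor
    · intro h τ hτ
      rw [← hr] at hτ
      obtain ⟨y, rfl⟩ := hτ
      rw [← map_mul, ← map_mul, h y]
    · intro h y
      exact hφ (by rw [map_mul, map_mul, h _ (hin y)])
  have hzT : toList zP = zT := toList_zP.trans zT_eq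
  have hsur : ∀ L, Good L ∧ L.length = 24 ∧ L ∈ els qPc 10 → ∃ p, toList (φ p) = L := by
    rintro L ⟨h1, h2, h3⟩
    have hm : permL L ∈ φ.range := by rw [hr, mem_P0, toList_permL h1 h2]; exact h3
    obtain ⟨p, hp⟩ := hm
    exact ⟨p, by rw [hp, toList_permL h1 h2]⟩
  choose pι hpι using fun v => hsur _ (iL_ok v)
  choose pρ hpρ using fun x => hsur _ (rL_ok x)
  have heq : ∀ a b : P, eqZ (toList (φ a)) (toList (φ b)) = true ↔ π a = π b := by
    intro a b
    have hc : π a = π b ↔ φ a = φ b ∨ φ a = zP * φ b := by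
      rw [← mul_inv_eq_one, ← map_inv, ← map_mul, hπ, QuotientGroup.mk'_apply, QuotientGroup.eq_one_iff, hZ,
        map_mul, map_inv, mul_inv_eq_one, mul_inv_eq_iff_eq_mul]
    rw [hc, eqZ, Bool.or_eq_true, beq_iff_eq, beq_iff_eq, ← hzT, ← toList_mul, toList_injective.eq_iff,
      toList_injective.eq_iff]
  let F : Frame (P ⧸ Subgroup.center P) :=
    { ι := fun v => π (pι v)
      ρ := fun x => π (pρ x)
      ι_mul := fun v w => by
        rw [← map_mul, ← heq, map_mul, toList_mul, hpι, hpι, hpι]
        exact iL_mul v w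
      ρ_mul := fun x y => by
        rw [← map_mul, ← heq, map_mul, toList_mul, hpρ, hpρ, hpρ]
        exact rL_mul x y
      ρ_ι := fun x v => by
        rw [← map_mul, ← map_mul, ← heq, map_mul, map_mul, toList_mul, toList_mul, hpρ, hpι, hpι]
        exact rL_iL x v
      ι_inj := fun v w h => iL_inj v w (by rw [← hpι, ← hpι, heq]; exact h)
      ρ_notMem := fun x hx v h => by
        have h1 := (heq _ _).2 h
        rw [hpρ, hpι, rL_notMem x hx v] at h1
        exact absurd h1 (by decide) }
  refine ⟨F, Subgroup.eq_top_of_card_eq _ ?_⟩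
  have hcardP : Nat.card P = 1024 := by
    rw [Nat.card_congr (MonoidHom.ofInjective hφ).toEquiv, hr, P0,
      card_pcGroup pcQ 10 qPc_length.ge]
    norm_num
  have hle := Subgroup.card_le_card_group F.S
  rw [F.card_S] at hle ⊢
  obtain ⟨xz, hxz⟩ := (hr ▸ zP_mem : zP ∈ φ.range)
  have hne : xz ≠ 1 := fun h => zP_ne_one (by rw [← hxz, h, map_one])
  have h2 : 2 ≤ Nat.card (Subgroup.center P) := by
    haveI : Nontrivial (Subgroup.center P) :=
      ⟨⟨⟨xz, (hZ xz).2 (Or.inr hxz)⟩, 1, fun h => hne (congrArg Subtype.val h)⟩⟩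
    exact Finite.one_lt_card
  have h3 := Subgroup.card_eq_card_quotient_mul_card_subgroup (Subgroup.center P)
  rw [hcardP] at h3
  nlinarith

/-- The model and a Sylow 2-subgroup of the group of degree 24 modulo its centre. -/
theorem exists_frame (P : Sylow 2 ↥Cfsg.M24) :
    ∃ F : Frame (↥(P : Subgroup ↥Cfsg.M24) ⧸ Subgroup.center ↥(P : Subgroup ↥Cfsg.M24)),
      F.S = ⊤ := by
  haveI : Fact (Nat.Prime 2) := ⟨Nat.prime_two⟩
  have hle : P0 ≤ M24 := by
    have h := pcGroup_le pcQ (T := M24) fun g hg =>
      permL_mem_M24 (pcQ.1 g hg).1 (pcQ.1 g hg).2 (qPc_preserves g hg)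
    rwa [qPc_length] at h
  have hcard : Nat.card (P0.comap M24.subtype) = 2 ^ (Nat.card M24).factorization 2 := by
    rw [← Subgroup.card_map_of_injective (f := M24.subtype) M24.subtype_injective,
      Subgroup.map_comap_eq, Subgroup.range_subtype, inf_eq_right.2 hle,
      factorization_two (a := 10) (m := 239085) (by rw [card_M24]; norm_num) (by norm_num)]
    exact card_pcGroup pcQ 10 qPc_length.ge
  set Q : Sylow 2 M24 := Sylow.ofCard _ hcard
  obtain ⟨g, hg⟩ := MulAction.exists_smul_eq M24 Q P
  set e : M24 →* M24 := (MulAut.conj g⁻¹).toMonoidHom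
  refine exists_frame_of_embedding ((M24.subtype.comp e).comp (P : Subgroup M24).subtype) ?_ ?_
  · exact M24.subtype_injective.comp ((MulAut.conj g⁻¹).injective.comp Subtype.val_injective)
  · have hPQ : (P : Subgroup M24) = (Q : Subgroup M24).map (MulAut.conj g).toMonoidHom := by
      rw [← hg, Sylow.smul_def, Sylow.pointwise_smul_def]
      rfl
    rw [MonoidHom.range_comp, Subgroup.range_subtype, hPQ, Subgroup.map_map]
    rw [show (M24.subtype.comp e).comp (MulAut.conj g).toMonoidHom = M24.subtype by
      ext y; simp [e, mul_assoc]]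
    show (P0.comap M24.subtype).map M24.subtype = P0
    rw [Subgroup.map_comap_eq, Subgroup.range_subtype, inf_eq_right.2 hle]

end CfsgLib.M24Type
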