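import Cfsg.Agent.M24Type.Frame
import Cfsg.Prelude.Def_TwoFusion

/-!
# The abelian subgroup of index eight is strongly closed

An involution outside it spans with its centralizer in it an elementary group of order 32. A
conjugation carrying this into the abelian group is excluded by Burnside's lemma in the centralizer
of the 16 common vectors; one between two such groups reduces to their normalizers, where two
non-commuting transvections would give a 2-element whose square moves the group.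
-/

set_option autoImplicit false
set_option linter.style.haveILetI false
set_option linter.unusedSectionVars false
set_option maxRecDepth 100000

namespace CfsgLib.M24Type

open Subgroup

theorem fixed_card : ∀ u, u ≠ 0 → mulU u u = 0 →
    (Finset.univ.filter fun v => act u v = v).card = 16 := by decide +kernel

theorem common_card : ∀ u w, u ≠ 0 → w ≠ 0 → u ≠ w → mulU u u = 0 → mulU w w = 0 →
    mulU u w = mulU w u →
    (Finset.univ.filter fun v => act u v = v ∧ act w v = v).card ≤ 8 := by decide +kernel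

theorem third_invol : ∀ u w x : Fin 8, u ≠ 0 → w ≠ 0 → u ≠ w → mulU u u = 0 → mulU w w = 0 →
    mulU u w = mulU w u → mulU x x = 0 → mulU u x = mulU x u → mulU w x = mulU x w →
    x = 0 ∨ x = u ∨ x = w ∨ x = mulU u w := by decide +kernel

universe u

variable {G : Type u} [Group G]

/-- The conjugate of a subgroup. -/
def cj (g : G) (H : Subgroup G) : Subgroup G := H.map (MulAut.conj g).toMonoidHom

theorem mem_cj {g x : G} {H : Subgroup G} : x ∈ cj g H ↔ g⁻¹ * x * g ∈ H := by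
  constructor
  · rintro ⟨y, hy, rfl⟩
    simpa [mul_assoc] using hy
  · exact fun h => ⟨_, h, by simp [mul_assoc]⟩

theorem conj_mem_cj {g x : G} {H : Subgroup G} (h : x ∈ H) : g * x * g⁻¹ ∈ cj g H := ⟨x, h, rfl⟩

theorem cj_mul (g h : G) (H : Subgroup G) : cj (g * h) H = cj g (cj h H) := by
  rw [cj, cj, cj, Subgroup.map_map]
  congr 1
  ext x
  simp [mul_assoc]

theorem cj_one (H : Subgroup G) : cj 1 H = H := by
  ext x
  simp [mem_cj]

theorem cj_inv_cancel (g : G) (H : Subgroup G) : cj g⁻¹ (cj g H) = H := by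
  rw [← cj_mul, inv_mul_cancel, cj_one]

theorem cj_mono {g : G} {H K : Subgroup G} (h : H ≤ K) : cj g H ≤ cj g K := map_mono h

theorem card_cj (g : G) (H : Subgroup G) : Nat.card (cj g H) = Nat.card H :=
  card_map_of_injective (MulAut.conj g).injective

theorem mem_normalizer_of_cj_eq {g : G} {H : Subgroup G} (h : cj g H = H) :
    g ∈ normalizer (H : Set G) := by
  refine mem_normalizer_iff.2 fun x => ⟨fun hx => h ▸ conj_mem_cj hx, fun hx => ?_⟩
  rw [← h, mem_cj] at hx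
  simpa [mul_assoc] using hx

theorem cj_eq_of_mem_normalizer {g : G} {H : Subgroup G} (h : g ∈ normalizer (H : Set G)) :
    cj g H = H := by
  ext x
  rw [mem_cj, mem_normalizer_iff.1 h, show g * (g⁻¹ * x * g) * g⁻¹ = x by group]

/-- A 2-subgroup of `K` lies in a conjugate within `K` of a given maximal one. -/
theorem exists_sylow_in [Finite G] {K P : Subgroup G} (hP : IsPGroup 2 P) (hPK : P ≤ K) :
    ∃ Q : Subgroup G, P ≤ Q ∧ Q ≤ K ∧ IsPGroup 2 Q ∧
      ∀ R : Subgroup G, R ≤ K → IsPGroup 2 R → ∃ k ∈ K, cj k R ≤ Q := by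
  haveI : Fact (Nat.Prime 2) := ⟨Nat.prime_two⟩
  obtain ⟨T, hT⟩ := (hP.of_equiv (subgroupOfEquivOfLe hPK).symm).exists_le_sylow
  refine ⟨(T : Subgroup K).map K.subtype, fun x hx => ⟨⟨x, hPK hx⟩, hT hx, rfl⟩, map_subtype_le _,
    T.2.map _, fun R hRK hR => ?_⟩
  obtain ⟨T', hT'⟩ := (hR.of_equiv (subgroupOfEquivOfLe hRK).symm).exists_le_sylow
  obtain ⟨k, hk⟩ := MulAction.exists_smul_eq K T' T
  refine ⟨k, k.2, ?_⟩
  rintro _ ⟨x, hx, rfl⟩
  refine ⟨k * ⟨x, hRK hx⟩ * k⁻¹, ?_, rfl⟩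
  rw [← hk, Sylow.smul_def, Sylow.pointwise_smul_def]
  exact ⟨⟨x, hRK hx⟩, hT' hx, rfl⟩

/-- The abelian subgroup is the only one of its order in a Sylow subgroup. -/
structure Ctx (G : Type u) [Group G] extends Frame G where
  /-- The Sylow subgroup. -/
  T : Sylow 2 G
  hT : toFrame.S = (T : Subgroup G)
  uniq : ∀ B : Subgroup G, B ≤ (T : Subgroup G) → (∀ a ∈ B, ∀ b ∈ B, a * b = b * a) →
    Nat.card B = 64 → B = toFrame.A

namespace Ctx

variable [Finite G] (C : Ctx G)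

theorem A_le_T : C.A ≤ (C.T : Subgroup G) := C.hT ▸ C.toFrame.A_le

theorem isPGroup_A : IsPGroup 2 C.A := C.T.isPGroup'.to_le C.A_le_T

theorem cj_le_T {g : G} (h : cj g C.A ≤ (C.T : Subgroup G)) : cj g C.A = C.A := by
  refine C.uniq _ h ?_ (by rw [card_cj, C.toFrame.card_A])
  rintro _ ⟨a, ha, rfl⟩ _ ⟨b, hb, rfl⟩
  rw [← map_mul, ← map_mul, C.toFrame.comm_of_mem ha hb]

theorem weakly {P : Subgroup G} (hP : IsPGroup 2 P) {g : G} (hA : C.A ≤ P) (hg : cj g C.A ≤ P) :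
    cj g C.A = C.A := by
  haveI : Fact (Nat.Prime 2) := ⟨Nat.prime_two⟩
  obtain ⟨R, hR⟩ := hP.exists_le_sylow
  obtain ⟨h, hh⟩ := MulAction.exists_smul_eq G R C.T
  have hle : cj h P ≤ (C.T : Subgroup G) := by
    rw [← hh, Sylow.smul_def, Sylow.pointwise_smul_def]
    rintro _ ⟨x, hx, rfl⟩
    exact ⟨x, hR hx, rfl⟩
  have h1 := C.cj_le_T ((cj_mono hA).trans hle)
  have h2 : cj (h * g) C.A = C.A := C.cj_le_T (by rw [cj_mul]; exact (cj_mono hg).trans hle)
  have h3 := congrArg (cj h⁻¹) h2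
  rw [cj_mul, cj_inv_cancel] at h3
  conv_rhs at h3 => rw [← h1, cj_inv_cancel]
  exact h3

theorem le_normalizer {P : Subgroup G} (hP : IsPGroup 2 P) (hA : C.A ≤ P) :
    P ≤ normalizer (C.A : Set G) := fun p hp => mem_normalizer_of_cj_eq (C.weakly hP hA (by
  rintro _ ⟨a, ha, rfl⟩
  exact mul_mem (mul_mem hp (hA ha)) (inv_mem hp)))

theorem to_T {P : Subgroup G} (hP : IsPGroup 2 P) (hA : C.A ≤ P) :
    ∃ m ∈ normalizer (C.A : Set G), cj m P ≤ (C.T : Subgroup G) := by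
  haveI : Fact (Nat.Prime 2) := ⟨Nat.prime_two⟩
  obtain ⟨R, hR⟩ := hP.exists_le_sylow
  obtain ⟨h, hh⟩ := MulAction.exists_smul_eq G R C.T
  have hle : cj h P ≤ (C.T : Subgroup G) := by
    rw [← hh, Sylow.smul_def, Sylow.pointwise_smul_def]
    rintro _ ⟨x, hx, rfl⟩
    exact ⟨x, hR hx, rfl⟩
  exact ⟨h, mem_normalizer_of_cj_eq (C.cj_le_T ((cj_mono hA).trans hle)), hle⟩

theorem align {K : Subgroup G} {g : G} (hA : C.A ≤ K) (hg : cj g C.A ≤ K) :
    ∃ k ∈ K, k * g ∈ normalizer (C.A : Set G) := by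
  obtain ⟨Q, hAQ, -, hQ, hconj⟩ := exists_sylow_in C.isPGroup_A hA
  obtain ⟨k, hk, hle⟩ := hconj _ hg (C.isPGroup_A.map _)
  exact ⟨k, hk, mem_normalizer_of_cj_eq (C.weakly hQ hAQ (by rw [cj_mul]; exact hle))⟩

theorem conj_A {m a : G} (hm : m ∈ normalizer (C.A : Set G)) (ha : a ∈ C.A) :
    m * a * m⁻¹ ∈ C.A :=
  (mem_normalizer_iff.1 hm a).1 ha

/-- The elements of the abelian subgroup centralizing `y`. -/
def cent (y : G) : Subgroup G := C.A ⊓ centralizer {y}

theorem mem_cent {y a : G} : a ∈ C.cent y ↔ a ∈ C.A ∧ y * a = a * y := by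
  rw [cent, mem_inf, mem_centralizer_iff]
  simp

theorem cj_cent {m y : G} (hm : m ∈ normalizer (C.A : Set G)) :
    cj m (C.cent y) = C.cent (m * y * m⁻¹) := by
  ext x
  rw [mem_cj, C.mem_cent, C.mem_cent]
  refine and_congr ?_ ⟨fun h => ?_, fun h => ?_⟩
  · rw [← mem_cj, cj_eq_of_mem_normalizer hm]
  · have h' := congrArg (fun t => m * t * m⁻¹) h
    simpa [mul_assoc] using h'
  · have h' := congrArg (fun t => m⁻¹ * t * m) h
    simpa [mul_assoc] using h'

/-- An involution of the Sylow subgroup outside the abelian subgroup. -/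
structure Outer (y : G) : Prop where
  mem : y ∈ (C.T : Subgroup G)
  notMem : y ∉ C.A
  sq : y * y = 1

theorem nf {y : G} (h : y ∈ (C.T : Subgroup G)) : ∃ v x, y = C.ι v * C.ρ x := by
  rw [← C.hT] at h
  exact h

theorem Outer.nf {y : G} (h : C.Outer y) :
    ∃ v x, y = C.ι v * C.ρ x ∧ x ≠ 0 ∧ mulU x x = 0 ∧ act x v = v := by
  obtain ⟨v, x, rfl⟩ := C.nf h.mem
  refine ⟨v, x, rfl, fun e => h.notMem (C.toFrame.nf_mem_A.2 e), ?_⟩
  have h' := h.sq
  rw [C.toFrame.nf_mul] at h'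
  obtain ⟨h1, h2⟩ := C.toFrame.nf_inj (w := 0) (y := 0)
    (h'.trans (by rw [C.toFrame.ι_zero, C.toFrame.ρ_zero, one_mul]))
  refine ⟨h2, ?_⟩
  have h3 : C.ι (act x v) = C.ι v := by
    have h4 : C.ι v * C.ι (act x v) = 1 := by rw [C.ι_mul, h1, C.toFrame.ι_zero]
    exact (eq_inv_of_mul_eq_one_right h4).trans (C.toFrame.ι_inv v)
  exact C.ι_inj h3

theorem ι_mem_cent (v w : Fin 64) (x : Fin 8) :
    C.ι w ∈ C.cent (C.ι v * C.ρ x) ↔ act x w = w := by
  rw [C.mem_cent]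
  exact ⟨fun h => (C.toFrame.nf_commute v x w).1 h.2,
    fun h => ⟨C.toFrame.ι_mem w, (C.toFrame.nf_commute v x w).2 h⟩⟩

theorem Outer.card_cent {y : G} (h : C.Outer y) : Nat.card (C.cent y) = 16 := by
  obtain ⟨v, x, rfl, hx, hxx, -⟩ := h.nf
  rw [← fixed_card x hx hxx, ← Fintype.card_subtype, ← Nat.card_eq_fintype_card]
  refine (Nat.card_congr (Equiv.ofBijective
    (fun w : {w // act x w = w} => (⟨C.ι w, (C.ι_mem_cent v w x).2 w.2⟩ : C.cent _)) ⟨?_, ?_⟩)).symm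
  · exact fun a b h => Subtype.ext (C.ι_inj (congrArg Subtype.val h))
  · rintro ⟨a, ha⟩
    obtain ⟨w, rfl⟩ := (C.mem_cent.1 ha).1
    exact ⟨⟨w, (C.ι_mem_cent v w x).1 ha⟩, rfl⟩

/-- The commutator of `y` with an element of the abelian subgroup. -/
theorem comm_mem_cent {y a : G} (hy : C.Outer y) (ha : a ∈ C.A) :
    a * (y * a * y⁻¹) ∈ C.cent y := by
  have hyA : y * a * y⁻¹ ∈ C.A := C.toFrame.conj_mem_A (C.hT.symm ▸ hy.mem) ha
  refine C.mem_cent.2 ⟨mul_mem ha hyA, ?_⟩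
  have hyi : y⁻¹ = y := inv_eq_of_mul_eq_one_right hy.sq
  rw [hyi] at hyA ⊢
  rw [C.toFrame.comm_of_mem ha hyA]
  calc y * (y * a * y * a) = (y * y) * (a * y * a) := by group
    _ = a * y * a := by rw [hy.sq, one_mul]
    _ = (a * y * a * y) * y := by rw [mul_assoc _ y y, hy.sq, mul_one]
    _ = (y * a * y * a) * y := by
      rw [← C.toFrame.comm_of_mem ha hyA]; group

/-- The span of the centralizer and `y`. -/
def box {y : G} (hy : C.Outer y) : Subgroup G where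
  carrier := {g | g ∈ C.cent y ∨ g * y ∈ C.cent y}
  one_mem' := Or.inl (one_mem _)
  mul_mem' := by
    have hcy : ∀ b ∈ C.cent y, y * b = b * y := fun b hb => (C.mem_cent.1 hb).2
    intro g h hg hh
    rcases hg with hg | hg <;> rcases hh with hh | hh
    · exact Or.inl (mul_mem hg hh)
    · exact Or.inr (by rw [mul_assoc]; exact mul_mem hg hh)
    · refine Or.inr ?_
      rw [mul_assoc, ← hcy h hh, ← mul_assoc]
      exact mul_mem hg hh
    · refine Or.inl ?_
      have e : g * h = g * y * (h * y) := by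
        rw [← mul_assoc (g * y), mul_assoc g y h]
        have h1 : y * (h * y) = h * y * y := hcy _ hh
        calc g * h = g * (h * y * y) := by rw [mul_assoc h, hy.sq, mul_one]
          _ = g * (y * h) * y := by rw [← h1]; group
      rw [e]
      exact mul_mem hg hh
  inv_mem' := by
    rintro g (hg | hg)
    · exact Or.inl (inv_mem hg)
    · have hb := C.toFrame.sq_of_mem (C.mem_cent.1 hg).1
      have hgy := (C.mem_cent.1 hg).2
      have hgg : g * g = 1 := by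
        calc g * g = g * y * (y * g) := by rw [show g * y * (y * g) = g * (y * y) * g by group, hy.sq, mul_one]
          _ = g * y * (y * (g * y) * y) := by rw [show y * (g * y) * y = y * g * (y * y) by group, hy.sq, mul_one]
          _ = g * y * (g * y * (y * y)) := by rw [hgy, mul_assoc _ y y]
          _ = 1 := by rw [hy.sq, mul_one, hb]
      rw [inv_eq_of_mul_eq_one_right hgg]
      exact Or.inr hg

variable {C}

theorem mem_box {y g : G} {hy : C.Outer y} :
    g ∈ C.box hy ↔ g ∈ C.cent y ∨ g * y ∈ C.cent y := Iff.rfl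

theorem self_mem_box {y : G} (hy : C.Outer y) : y ∈ C.box hy :=
  mem_box.2 (Or.inr (by rw [hy.sq]; exact one_mem _))

theorem cent_le_box {y : G} (hy : C.Outer y) : C.cent y ≤ C.box hy := fun _ h => Or.inl h

theorem box_comm {y : G} (hy : C.Outer y) :
    ∀ g ∈ C.box hy, ∀ h ∈ C.box hy, g * h = h * g := by
  have hA : ∀ a ∈ C.cent y, ∀ b ∈ C.cent y, Commute a b := fun a ha b hb =>
    C.toFrame.comm_of_mem (C.mem_cent.1 ha).1 (C.mem_cent.1 hb).1
  have hY : ∀ a ∈ C.cent y, Commute a y := fun a ha => (C.mem_cent.1 ha).2.symm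
  have split : ∀ g ∈ C.box hy, ∃ a ∈ C.cent y, g = a ∨ g = a * y := by
    rintro g (hg | hg)
    · exact ⟨g, hg, Or.inl rfl⟩
    · exact ⟨g * y, hg, Or.inr (by rw [mul_assoc, hy.sq, mul_one])⟩
  intro g hg h hh
  obtain ⟨a, ha, ea⟩ := split g hg
  obtain ⟨b, hb, eb⟩ := split h hh
  rcases ea with rfl | rfl <;> rcases eb with rfl | rfl
  · exact (hA _ ha _ hb).eq
  · exact ((hA _ ha _ hb).mul_right (hY _ ha)).eq
  · exact ((hA _ ha _ hb).mul_left (hY _ hb).symm).eq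
  · exact (((hA _ ha _ hb).mul_left (hY _ hb).symm).mul_right
      ((hY _ ha).mul_left (Commute.refl y))).eq

theorem box_le_T {y : G} (hy : C.Outer y) : C.box hy ≤ (C.T : Subgroup G) := by
  rintro g (hg | hg)
  · exact C.A_le_T (C.mem_cent.1 hg).1
  · have h := mul_mem (C.A_le_T (C.mem_cent.1 hg).1) hy.mem
    rwa [mul_assoc, hy.sq, mul_one] at h

theorem box_inf_A {y : G} (hy : C.Outer y) : C.box hy ⊓ C.A = C.cent y := by
  refine le_antisymm ?_ fun g hg => ⟨Or.inl hg, (C.mem_cent.1 hg).1⟩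
  rintro g ⟨hg | hg, hA⟩
  · exact hg
  · refine absurd ?_ hy.notMem
    have h := mul_mem (inv_mem (show g ∈ C.A from hA)) (C.mem_cent.1 hg).1
    rwa [inv_mul_cancel_left] at h

theorem cj_box {y y' : G} (hy : C.Outer y) (hy' : C.Outer y') {m : G}
    (hm : m ∈ normalizer (C.A : Set G)) (he : m * y * m⁻¹ = y') :
    cj m (C.box hy) = C.box hy' := by
  ext g
  rw [mem_cj, mem_box, mem_box, ← he, ← C.cj_cent hm, mem_cj, mem_cj,
    show m⁻¹ * (g * (m * y * m⁻¹)) * m = m⁻¹ * g * m * y by group]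

theorem Outer.conj {y m : G} (hy : C.Outer y) (hm : m ∈ normalizer (C.A : Set G))
    (hmem : m * y * m⁻¹ ∈ (C.T : Subgroup G)) : C.Outer (m * y * m⁻¹) := by
  refine ⟨hmem, fun h => hy.notMem ?_, ?_⟩
  · exact (mem_normalizer_iff.1 hm y).2 h
  · rw [show m * y * m⁻¹ * (m * y * m⁻¹) = m * (y * y) * m⁻¹ by group, hy.sq, mul_one,
      mul_inv_cancel]

theorem conj_by_A {y a : G} (hy : C.Outer y) (ha : a ∈ C.A) :
    ∃ d ∈ C.cent y, a * y * a⁻¹ = d * y ∧ d = a * (y * a * y⁻¹) :=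
  ⟨_, C.comm_mem_cent hy ha, by
    rw [inv_eq_of_mul_eq_one_right (C.toFrame.sq_of_mem ha)]; group, rfl⟩

theorem A_le_normalizer_box {y : G} (hy : C.Outer y) :
    C.A ≤ normalizer (C.box hy : Set G) := by
  intro a ha
  have hai : a⁻¹ = a := inv_eq_of_mul_eq_one_right (C.toFrame.sq_of_mem ha)
  have hmap : ∀ g ∈ C.box hy, a * g * a⁻¹ ∈ C.box hy := by
    have hfix : ∀ b ∈ C.cent y, a * b * a⁻¹ = b := fun b hb => by
      rw [C.toFrame.comm_of_mem ha (C.mem_cent.1 hb).1, mul_inv_cancel_right]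
    rintro g (hg | hg)
    · rw [hfix g hg]; exact Or.inl hg
    · obtain ⟨d, hd, hdy, -⟩ := conj_by_A hy ha
      have e : a * g * a⁻¹ = a * (g * y) * a⁻¹ * (a * y * a⁻¹) := by
        rw [show a * (g * y) * a⁻¹ * (a * y * a⁻¹) = a * g * (y * y) * a⁻¹ by group, hy.sq,
          mul_one]
      rw [e, hfix _ hg, hdy]
      exact mul_mem (cent_le_box hy hg) (mul_mem (cent_le_box hy hd) (self_mem_box hy))
  refine mem_normalizer_iff.2 fun g => ⟨hmap g, fun h => ?_⟩
  have h' := hmap _ h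
  rw [show a * (a * g * a⁻¹) * a⁻¹ = (a * a) * g * (a * a)⁻¹ by group, C.toFrame.sq_of_mem ha,
    one_mul, inv_one, mul_one] at h'
  exact h'

/-- A 2-element normalizing the box has square centralizing it. -/
theorem sq_centralizes {y : G} (hy : C.Outer y) {g : G}
    (hg : g ∈ normalizer (C.box hy : Set G)) (hg2 : IsPGroup 2 (zpowers g)) :
    ∀ w ∈ C.box hy, g * g * w * (g * g)⁻¹ = w := by
  obtain ⟨Q, hAQ, hQK, hQ, hconj⟩ := exists_sylow_in C.isPGroup_A (A_le_normalizer_box hy)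
  obtain ⟨j, hj, hjle⟩ := hconj _ (zpowers_le.2 hg) hg2
  obtain ⟨m, hm, hmle⟩ := C.to_T hQ hAQ
  -- reduce to the Sylow subgroup
  set M := m * j with hM
  set q := M * g * M⁻¹ with hq
  have hqT : q ∈ (C.T : Subgroup G) := hmle (by
    rw [hq, hM, show m * j * g * (m * j)⁻¹ = m * (j * g * j⁻¹) * m⁻¹ by group]
    exact conj_mem_cj (hjle (conj_mem_cj (mem_zpowers g))))
  have hbox : cj M (C.box hy) = cj m (C.box hy) := by
    rw [hM, cj_mul, cj_eq_of_mem_normalizer hj]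
  set y' := m * y * m⁻¹ with hy'def
  have hy'T : y' ∈ (C.T : Subgroup G) := by
    -- `y` lies in a 2-subgroup of the normalizer together with `A`
    have hyQ : y ∈ Q := by
      have hbp : IsPGroup 2 (C.box hy) := C.T.isPGroup'.to_le (box_le_T hy)
      obtain ⟨k, hk, hkle⟩ := hconj _ Subgroup.le_normalizer hbp
      rw [cj_eq_of_mem_normalizer hk] at hkle
      exact hkle (self_mem_box hy)
    exact hmle (conj_mem_cj hyQ)
  have hy' : C.Outer y' := hy.conj hm hy'T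
  rw [cj_box hy hy' hm hy'def.symm] at hbox
  have hqn : ∀ w ∈ C.box hy', q * w * q⁻¹ ∈ C.box hy' := by
    intro w hw
    rw [← hbox] at hw ⊢
    obtain ⟨w₀, hw₀, rfl⟩ := hw
    refine ⟨g * w₀ * g⁻¹, (mem_normalizer_iff.1 hg w₀).1 hw₀, ?_⟩
    simp [hq, mul_assoc]
  -- in coordinates
  obtain ⟨v, x, hve, hx, hxx, hxv⟩ := hy'.nf
  obtain ⟨v', x', hqe⟩ := C.nf hqT
  have hqy := hqn y' (self_mem_box hy')
  have hqyA : q * y' * q⁻¹ ∉ C.A := fun h => hy'.notMem ((mem_normalizer_iff.1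
    (C.le_normalizer C.T.isPGroup' C.A_le_T hqT) y').2 h)
  have hc : q * y' * q⁻¹ * y' ∈ C.cent y' := by
    rcases hqy with h | h
    · exact absurd (C.mem_cent.1 h).1 hqyA
    · exact h
  obtain ⟨c, hce⟩ := (C.mem_cent.1 hc).1
  have hce' : q * y' = C.ι c * y' * q := by
    rw [hce, show q * y' * q⁻¹ * y' * y' * q = q * y' * q⁻¹ * (y' * y') * q by group, hy'.sq,
      mul_one, inv_mul_cancel_right]
  have hn1 : mulU x' x = mulU x x' ∧ vadd v' (act x' v) = vadd (vadd c v) (act x v') := by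
    rw [hqe, hve, ← mul_assoc (C.ι c), C.ι_mul, C.toFrame.nf_mul, C.toFrame.nf_mul] at hce'
    exact ⟨(C.toFrame.nf_inj hce').2, (C.toFrame.nf_inj hce').1⟩
  obtain ⟨hcom, hcv⟩ := hn1
  obtain ⟨hsqfix, hdfix⟩ := commuting_facts x x' hx hxx hcom.symm
  have hcform : C.ι c = C.ι (vadd v' (act x v')) * (C.ι (act x' v) * C.ι v) := by
    have h2 : C.ι v' * C.ι (act x' v) = C.ι c * C.ι v * C.ι (act x v') := by
      rw [C.ι_mul, C.ι_mul, C.ι_mul, hcv]
    calc C.ι c = C.ι c * C.ι v * C.ι (act x v') * (C.ι (act x v') * C.ι v) := by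
          rw [show C.ι c * C.ι v * C.ι (act x v') * (C.ι (act x v') * C.ι v) =
            C.ι c * C.ι v * (C.ι (act x v') * C.ι (act x v')) * C.ι v by group,
            C.toFrame.sq_of_mem (C.toFrame.ι_mem _), mul_one, mul_assoc,
            C.toFrame.sq_of_mem (C.toFrame.ι_mem _), mul_one]
      _ = C.ι (vadd v' (act x v')) * (C.ι (act x' v) * C.ι v) := by
          rw [← h2, ← C.ι_mul v' (act x v'), show C.ι v' * C.ι (act x' v) * (C.ι (act x v') * C.ι v)
            = C.ι v' * (C.ι (act x' v) * C.ι (act x v')) * C.ι v by group,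
            C.toFrame.ι_comm (act x' v)]
          group
  have hqc : q * C.ι c * q⁻¹ = C.ι c := by
    rw [hqe, C.toFrame.nf_conj]
    have e : c = vadd (dlt x v') (vadd (act x' v) v) := by
      refine C.ι_inj ?_
      rw [hcform, dlt, vadd_comm (act x v'), ← C.ι_mul (vadd v' _), C.ι_mul (act x' v)]
    rw [e, act_vadd, hdfix, act_vadd, act_act, hsqfix v hxv, vadd_comm v]
  have hq2 : ∀ w ∈ C.box hy', q * q * w * (q * q)⁻¹ = w := by
    have hfix : ∀ b ∈ C.cent y', q * q * b * (q * q)⁻¹ = b := fun b hb => by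
      obtain ⟨w, rfl⟩ := (C.mem_cent.1 hb).1
      have hw : act x w = w := (C.ι_mem_cent v w x).1 (hve ▸ hb)
      rw [hqe, C.toFrame.nf_mul, C.toFrame.nf_conj, hsqfix w hw]
    have hy2 : q * q * y' * (q * q)⁻¹ = y' := by
      calc q * q * y' * (q * q)⁻¹ = q * (q * y') * q⁻¹ * q⁻¹ := by group
        _ = q * (C.ι c * y' * q) * q⁻¹ * q⁻¹ := by rw [hce']
        _ = q * C.ι c * q⁻¹ * (q * y') * q⁻¹ := by group
        _ = C.ι c * (C.ι c * y' * q) * q⁻¹ := by rw [hqc, hce']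
        _ = C.ι c * C.ι c * y' := by group
        _ = y' := by rw [C.toFrame.sq_of_mem (C.toFrame.ι_mem _), one_mul]
    rintro w (hw | hw)
    · exact hfix w hw
    · have e : w = w * y' * y' := by rw [mul_assoc, hy'.sq, mul_one]
      conv_lhs => rw [e]
      rw [show q * q * (w * y' * y') * (q * q)⁻¹ =
        q * q * (w * y') * (q * q)⁻¹ * (q * q * y' * (q * q)⁻¹) by group, hfix _ hw, hy2, ← e]
  intro w hw
  have h := hq2 (M * w * M⁻¹) (hbox ▸ conj_mem_cj hw)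
  have h' := congrArg (fun t => M⁻¹ * t * M) h
  simpa [hq, mul_assoc] using h'

/-- The normalizer of a box preserves its intersection with the abelian subgroup. -/
theorem conj_mem_cent {y : G} (hy : C.Outer y) {k : G}
    (hk : k ∈ normalizer (C.box hy : Set G)) {w : G} (hw : w ∈ C.cent y) :
    k * w * k⁻¹ ∈ C.cent y := by
  set B := C.box hy with hB
  set D : Set G := {d | ∃ a ∈ C.A, d = a * (y * a * y⁻¹)} with hD
  have hDC : ∀ d ∈ D, d ∈ C.cent y := by
    rintro _ ⟨a, ha, rfl⟩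
    exact C.comm_mem_cent hy ha
  have hinB : ∀ {l x : G}, l ∈ normalizer (B : Set G) → x ∈ B → l * x * l⁻¹ ∈ B :=
    fun hl hx => (mem_normalizer_iff.1 hl _).1 hx
  have htriv : ∀ {a x : G}, a ∈ C.A → x ∈ C.cent y → a * x * a⁻¹ = x := fun ha hx => by
    rw [C.toFrame.comm_of_mem ha (C.mem_cent.1 hx).1, mul_inv_cancel_right]
  have hact : ∀ {a x : G}, a ∈ C.A → x ∈ B → x ∉ C.cent y →
      a * x * a⁻¹ = a * (y * a * y⁻¹) * x := by
    intro a x ha hx hxC
    have hxy : x * y ∈ C.cent y := hx.resolve_left hxC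
    obtain ⟨d, hd, hdy, rfl⟩ := conj_by_A hy ha
    calc a * x * a⁻¹ = a * (x * y) * a⁻¹ * (a * y * a⁻¹) := by
          rw [show a * (x * y) * a⁻¹ * (a * y * a⁻¹) = a * x * (y * y) * a⁻¹ by group, hy.sq,
            mul_one]
      _ = x * y * (a * (y * a * y⁻¹) * y) := by rw [htriv ha hxy, hdy]
      _ = a * (y * a * y⁻¹) * (x * y * y) := by
          rw [← mul_assoc, C.toFrame.comm_of_mem (C.mem_cent.1 hxy).1 (C.mem_cent.1 hd).1,
            mul_assoc]
      _ = a * (y * a * y⁻¹) * x := by rw [mul_assoc x, hy.sq, mul_one]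
  by_contra hmove
  -- the main case: some transported commutator leaves the abelian subgroup
  have main : ∀ l : G, l ∈ normalizer (B : Set G) → (∃ u ∈ C.cent y, l * u * l⁻¹ ∉ C.cent y) →
      ∀ d ∈ D, l * d * l⁻¹ ∈ C.cent y := by
    intro l hl hlmove d₀ hd₀
    by_contra hout
    obtain ⟨a', ha', rfl⟩ := hd₀
    set d' := l * (a' * (y * a' * y⁻¹)) * l⁻¹ with hd'
    -- a commutator in both subgroups
    obtain ⟨d, ⟨a, ha, rfl⟩, hd1, hdl⟩ : ∃ d ∈ D, d ≠ 1 ∧ l⁻¹ * d * l ∈ C.cent y := by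
      obtain ⟨v, x, hve, hx, hxx, -⟩ := hy.nf
      obtain ⟨-, w₁, w₂, h1, h2, h12⟩ := invol_facts x hx hxx
      have hdl : ∀ w : Fin 64, C.ι (dlt x w) ∈ D := fun w => ⟨_, C.toFrame.ι_mem w, by
        rw [hve, C.toFrame.nf_conj, dlt, vadd_comm, C.ι_mul]⟩
      have hin : ∀ w : Fin 64, l⁻¹ * C.ι (dlt x w) * l ∈ B := fun w => by
        have h := hinB (inv_mem hl) (cent_le_box hy (hDC _ (hdl w)))
        rwa [inv_inv] at h
      by_cases e1 : l⁻¹ * C.ι (dlt x w₁) * l ∈ C.cent y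
      · exact ⟨_, hdl w₁, fun e => h1 (C.toFrame.ι_eq_one.1 e), e1⟩
      by_cases e2 : l⁻¹ * C.ι (dlt x w₂) * l ∈ C.cent y
      · exact ⟨_, hdl w₂, fun e => h2 (C.toFrame.ι_eq_one.1 e), e2⟩
      have e3 : dlt x (vadd w₁ w₂) = vadd (dlt x w₁) (dlt x w₂) := dlt_vadd x w₁ w₂
      refine ⟨_, hdl (vadd w₁ w₂), fun e => h12 ?_, ?_⟩
      · rw [C.toFrame.ι_eq_one, e3] at e
        refine C.ι_inj ((eq_inv_of_mul_eq_one_left ?_).trans (C.toFrame.ι_inv _))
        rw [C.ι_mul, e, C.toFrame.ι_zero]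
      · rw [e3, ← C.ι_mul, show l⁻¹ * (C.ι (dlt x w₁) * C.ι (dlt x w₂)) * l =
          l⁻¹ * C.ι (dlt x w₁) * l * (l⁻¹ * C.ι (dlt x w₂) * l) by group]
        have q1 := (hin w₁).resolve_left e1
        have q2 := (hin w₂).resolve_left e2
        have hy2 : y * (l⁻¹ * C.ι (dlt x w₂) * l) = (l⁻¹ * C.ι (dlt x w₂) * l) * y :=
          box_comm hy _ (self_mem_box hy) _ (hin w₂)
        have := mul_mem q1 q2
        rwa [show l⁻¹ * C.ι (dlt x w₁) * l * y * (l⁻¹ * C.ι (dlt x w₂) * l * y) =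
          l⁻¹ * C.ι (dlt x w₁) * l * (y * (l⁻¹ * C.ι (dlt x w₂) * l)) * y by group, hy2,
          show l⁻¹ * C.ι (dlt x w₁) * l * (l⁻¹ * C.ι (dlt x w₂) * l * y) * y =
          l⁻¹ * C.ι (dlt x w₁) * l * (l⁻¹ * C.ι (dlt x w₂) * l) * (y * y) by group, hy.sq,
          mul_one] at this
    set d := a * (y * a * y⁻¹) with hd
    have hdC : d ∈ C.cent y := hDC _ ⟨a, ha, rfl⟩
    set a₁ := l * a' * l⁻¹ with ha₁
    -- the action of `a₁`
    have hfix₁ : ∀ x ∈ B, l⁻¹ * x * l ∈ C.cent y → a₁ * x * a₁⁻¹ = x := by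
      intro x _ hx
      have h := congrArg (fun t => l * t * l⁻¹) (htriv ha' hx)
      simpa [ha₁, mul_assoc] using h
    have hmov₁ : ∀ x ∈ B, l⁻¹ * x * l ∉ C.cent y → a₁ * x * a₁⁻¹ = d' * x := by
      intro x hx hxC
      have hxB : l⁻¹ * x * l ∈ B := by
        have h := hinB (inv_mem hl) hx
        rwa [inv_inv] at h
      have h := congrArg (fun t => l * t * l⁻¹) (hact ha' hxB hxC)
      simpa [ha₁, hd', mul_assoc] using h
    -- a vector fixed by `a` and moved by `a₁`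
    obtain ⟨u, hu, hul⟩ : ∃ u ∈ C.cent y, l⁻¹ * u * l ∉ C.cent y := by
      by_contra h
      push Not at h
      have hle : cj l⁻¹ (C.cent y) ≤ C.cent y := by
        rintro _ ⟨u, hu, rfl⟩
        simpa using h u hu
      have heq : cj l⁻¹ (C.cent y) = C.cent y :=
        eq_of_le_of_card_ge hle (card_cj _ _).ge
      obtain ⟨u, hu, hu'⟩ := hlmove
      rw [← heq, mem_cj, inv_inv] at hu
      exact hu' hu
    have hd'l : l⁻¹ * d' * l ∈ C.cent y := by
      rw [hd', show l⁻¹ * (l * (a' * (y * a' * y⁻¹)) * l⁻¹) * l = a' * (y * a' * y⁻¹) by group]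
      exact C.comm_mem_cent hy ha'
    have hd'B : d' ∈ B := hinB hl (cent_le_box hy (C.comm_mem_cent hy ha'))
    have hd'd' : d' * d' = 1 := by
      rw [hd', show l * (a' * (y * a' * y⁻¹)) * l⁻¹ * (l * (a' * (y * a' * y⁻¹)) * l⁻¹) =
        l * (a' * (y * a' * y⁻¹) * (a' * (y * a' * y⁻¹))) * l⁻¹ by group,
        C.toFrame.sq_of_mem (C.mem_cent.1 (C.comm_mem_cent hy ha')).1, mul_one, mul_inv_cancel]
    have huB : u ∈ B := cent_le_box hy hu
    set g := a * a₁ with hg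
    have hg1 : g * u * g⁻¹ = d * d' * u := by
      rw [hg, show a * a₁ * u * (a * a₁)⁻¹ = a * (a₁ * u * a₁⁻¹) * a⁻¹ by group, hmov₁ u huB hul,
        show a * (d' * u) * a⁻¹ = a * d' * a⁻¹ * (a * u * a⁻¹) by group, htriv ha hu,
        hact ha hd'B hout]
    have hgd : g * d * g⁻¹ = d := by
      rw [hg, show a * a₁ * d * (a * a₁)⁻¹ = a * (a₁ * d * a₁⁻¹) * a⁻¹ by group,
        hfix₁ d (cent_le_box hy hdC) hdl, htriv ha hdC]
    have hgd' : g * d' * g⁻¹ = d * d' := by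
      rw [hg, show a * a₁ * d' * (a * a₁)⁻¹ = a * (a₁ * d' * a₁⁻¹) * a⁻¹ by group,
        hfix₁ d' hd'B hd'l, hact ha hd'B hout]
    have hdd : d * d = 1 := C.toFrame.sq_of_mem (C.mem_cent.1 hdC).1
    have hg2 : g * g * u * (g * g)⁻¹ = d * u := by
      calc g * g * u * (g * g)⁻¹ = g * (g * u * g⁻¹) * g⁻¹ := by group
        _ = (g * d * g⁻¹) * (g * d' * g⁻¹) * (g * u * g⁻¹) := by
          nth_rewrite 1 [hg1]; group
        _ = (d * d) * d' * (d * d') * u := by rw [hgd, hgd', hg1]; group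
        _ = d * u := by
          rw [hdd, one_mul, show d' * (d * d') = d * (d' * d') by
            rw [← mul_assoc, box_comm hy d' hd'B d (cent_le_box hy hdC), mul_assoc], hd'd', mul_one]
    -- take the 2-part
    obtain ⟨e, m, hm, hem⟩ :=
      Nat.exists_eq_pow_mul_and_not_dvd (orderOf_pos g).ne' 2 (by norm_num)
    have hgN : g ∈ normalizer (B : Set G) := mul_mem (A_le_normalizer_box hy ha)
      (mul_mem (mul_mem hl (A_le_normalizer_box hy ha')) (inv_mem hl))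
    have hp : IsPGroup 2 (zpowers (g ^ m)) := IsPGroup.of_card (n := e) (by
      rw [Nat.card_zpowers, orderOf_pow_of_dvd (by intro h; simp [h] at hm) ⟨2 ^ e, by
        rw [hem, mul_comm]⟩, hem, Nat.mul_div_cancel _ (Nat.pos_of_ne_zero fun h0 => hm ⟨0, by omega⟩)])
    have hiter : ∀ i : ℕ, (g * g) ^ i * u * ((g * g) ^ i)⁻¹ = d ^ i * u := by
      intro i
      induction i with
      | zero => simp
      | succ i ih =>
        calc (g * g) ^ (i + 1) * u * ((g * g) ^ (i + 1))⁻¹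
            = g * g * ((g * g) ^ i * u * ((g * g) ^ i)⁻¹) * (g * g)⁻¹ := by
              generalize g * g = e'; rw [pow_succ']; group
          _ = (g * g * d ^ i * (g * g)⁻¹) * (g * g * u * (g * g)⁻¹) := by rw [ih]; group
          _ = d ^ i * (d * u) := by
              rw [hg2, ← conj_pow, show g * g * d * (g * g)⁻¹ = g * (g * d * g⁻¹) * g⁻¹ by group,
                hgd, hgd]
          _ = d ^ (i + 1) * u := by rw [pow_succ, mul_assoc (d ^ i) d u]
    have hfin := sq_centralizes hy (pow_mem hgN m) hp u huB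
    rw [show g ^ m * g ^ m = (g * g) ^ m by rw [(Commute.refl g).mul_pow], hiter] at hfin
    obtain ⟨t, rfl⟩ := Nat.odd_iff.2 (Nat.two_dvd_ne_zero.1 hm)
    rw [pow_succ, pow_mul, sq, hdd, one_pow, one_mul, mul_eq_right] at hfin
    exact hd1 hfin
  -- the commuting case
  have hk1 := main k hk ⟨w, hw, hmove⟩
  have hk2 := main k⁻¹ (inv_mem hk) (by
    by_contra h
    push Not at h
    refine hmove ?_
    have hle : cj k⁻¹ (C.cent y) ≤ C.cent y := by
      rintro _ ⟨u, hu, rfl⟩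
      simpa using h u hu
    have hw' : w ∈ cj k⁻¹ (C.cent y) := (eq_of_le_of_card_ge hle (card_cj _ _).ge).ge hw
    rwa [mem_cj, inv_inv] at hw')
  -- both groups act by commuting involutions
  set N := normalizer (B : Set G) with hN
  let ψ : N →* MulAut B := MonoidHom.mk'
    (fun n =>
      { toFun := fun x => ⟨n * x * (n : G)⁻¹, (mem_normalizer_iff.1 n.2 _).1 x.2⟩
        invFun := fun x => ⟨(n : G)⁻¹ * x * n, by
          have h := (mem_normalizer_iff.1 (inv_mem n.2) _).1 x.2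
          rwa [inv_inv] at h⟩
        left_inv := fun x => Subtype.ext (by simp [mul_assoc])
        right_inv := fun x => Subtype.ext (by simp [mul_assoc])
        map_mul' := fun x y => Subtype.ext (by simp [mul_assoc]) })
    fun n m => MulEquiv.ext fun x => Subtype.ext (by simp [mul_assoc])
  set A₁ := C.A.subgroupOf N with hA₁
  set A₂ := (cj k C.A).subgroupOf N with hA₂
  have hAN : C.A ≤ N := A_le_normalizer_box hy
  have hA'N : cj k C.A ≤ N := by
    rintro _ ⟨a, ha, rfl⟩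
    exact mul_mem (mul_mem hk (hAN ha)) (inv_mem hk)
  have hcomm : ∀ a ∈ A₁, ∀ b ∈ A₂, Commute (ψ a) (ψ b) := by
    rintro ⟨a, haN⟩ (ha : a ∈ C.A) ⟨_, hbN⟩ ⟨a', ha', rfl⟩
    refine MulEquiv.ext fun ⟨x, hx⟩ => Subtype.ext ?_
    simp only [MulAut.mul_apply]
    show a * (k * a' * k⁻¹ * x * (k * a' * k⁻¹)⁻¹) * a⁻¹ =
      k * a' * k⁻¹ * (a * x * a⁻¹) * (k * a' * k⁻¹)⁻¹
    set a₁ := k * a' * k⁻¹ with ha₁
    set d' := k * (a' * (y * a' * y⁻¹)) * k⁻¹ with hd'
    set d := a * (y * a * y⁻¹) with hd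
    have hdC : d ∈ C.cent y := hDC _ ⟨a, ha, rfl⟩
    have hd'C : d' ∈ C.cent y := hk1 _ ⟨a', ha', rfl⟩
    have hdk : k⁻¹ * d * k ∈ C.cent y := by simpa using hk2 d ⟨a, ha, rfl⟩
    have hxk : k⁻¹ * x * k ∈ B := by simpa using hinB (inv_mem hk) hx
    -- the effects on the elements of the box
    have h1 : a₁ * x * a₁⁻¹ = x ∨ a₁ * x * a₁⁻¹ = d' * x := by
      by_cases h : k⁻¹ * x * k ∈ C.cent y
      · left
        have h' := congrArg (fun t => k * t * k⁻¹) (htriv ha' h)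
        simpa [ha₁, mul_assoc] using h'
      · right
        have h' := congrArg (fun t => k * t * k⁻¹) (hact ha' hxk h)
        simpa [ha₁, hd', mul_assoc] using h'
    have h2 : a * x * a⁻¹ = x ∨ a * x * a⁻¹ = d * x := by
      by_cases h : x ∈ C.cent y
      exacts [Or.inl (htriv ha h), Or.inr (hact ha hx h)]
    have h3 : a₁ * d * a₁⁻¹ = d := by
      have h' := congrArg (fun t => k * t * k⁻¹) (htriv ha' hdk)
      simpa [ha₁, mul_assoc] using h'
    have h4 : a * d' * a⁻¹ = d' := htriv ha hd'C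
    have hdd' : d * d' = d' * d := C.toFrame.comm_of_mem (C.mem_cent.1 hdC).1 (C.mem_cent.1 hd'C).1
    rcases h1 with h1 | h1 <;> rcases h2 with h2 | h2 <;> rw [h1, h2]
    · exact h1.symm
    · rw [show a₁ * (d * x) * a₁⁻¹ = a₁ * d * a₁⁻¹ * (a₁ * x * a₁⁻¹) by group, h3, h1]
    · rw [show a * (d' * x) * a⁻¹ = a * d' * a⁻¹ * (a * x * a⁻¹) by group, h4, h2, h1]
    · rw [show a₁ * (d * x) * a₁⁻¹ = a₁ * d * a₁⁻¹ * (a₁ * x * a₁⁻¹) by group, h3, h1,
        show a * (d' * x) * a⁻¹ = a * d' * a⁻¹ * (a * x * a⁻¹) by group, h4, h2,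
        ← mul_assoc d', ← hdd', mul_assoc]
  haveI : Fact (Nat.Prime 2) := ⟨Nat.prime_two⟩
  have hp₁ : IsPGroup 2 A₁ := C.isPGroup_A.of_equiv (subgroupOfEquivOfLe hAN).symm
  have hp₂ : IsPGroup 2 A₂ := (C.isPGroup_A.map _).of_equiv (subgroupOfEquivOfLe hA'N).symm
  have himg : IsPGroup 2 ((A₁ ⊔ A₂).map ψ) := by
    rw [Subgroup.map_sup]
    refine IsPGroup.to_sup_of_normal_right' (hp₁.map ψ) (hp₂.map ψ) ?_
    rintro _ ⟨a, ha, rfl⟩
    refine mem_normalizer_iff.2 fun t => ⟨?_, ?_⟩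
    · rintro ⟨b, hb, rfl⟩
      rw [(hcomm a ha b hb).eq, mul_inv_cancel_right]
      exact ⟨b, hb, rfl⟩
    · rintro ⟨b, hb, e⟩
      refine ⟨b, hb, ?_⟩
      calc ψ b = (ψ a)⁻¹ * ψ a * ψ b := by group
        _ = (ψ a)⁻¹ * (ψ b * ψ a) := by rw [mul_assoc, (hcomm a ha b hb).eq]
        _ = t := by rw [e]; group
  set H₀ := ((A₁ ⊔ A₂).map ψ).comap ψ with hH₀
  obtain ⟨T₁, hT₁⟩ := (hp₁.of_equiv (subgroupOfEquivOfLe
    (le_sup_left.trans (le_comap_map ψ _) : A₁ ≤ H₀)).symm).exists_le_sylow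
  obtain ⟨T₂, hT₂⟩ := (hp₂.of_equiv (subgroupOfEquivOfLe
    (le_sup_right.trans (le_comap_map ψ _) : A₂ ≤ H₀)).symm).exists_le_sylow
  let ψ₀ : H₀ →* ((A₁ ⊔ A₂).map ψ : Subgroup (MulAut B)) :=
    (ψ.comp H₀.subtype).codRestrict _ fun h => h.2
  have hψ₀ : Function.Surjective ψ₀ := by
    rintro ⟨_, x, hx, rfl⟩
    exact ⟨⟨x, le_comap_map ψ _ hx⟩, rfl⟩
  obtain ⟨c, hc⟩ := MulAction.exists_smul_eq H₀ T₂ T₁
  -- correct the conjugating element so that it centralizes the box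
  have htop : ((T₁.mapSurjective hψ₀ : Sylow 2 ((A₁ ⊔ A₂).map ψ : Subgroup (MulAut B))) :
      Subgroup ((A₁ ⊔ A₂).map ψ : Subgroup (MulAut B))) = ⊤ :=
    ((T₁.mapSurjective hψ₀).3 (himg.of_equiv Subgroup.topEquiv.symm) le_top).symm
  obtain ⟨t, ht, hte⟩ : ∃ t ∈ (T₁ : Subgroup H₀), ψ₀ t = ψ₀ c := htop.ge (mem_top (ψ₀ c))
  set c' := t⁻¹ * c with hc'
  have hc'1 : ψ (c' : N) = 1 := by
    have h : ψ₀ c' = 1 := by rw [hc', map_mul, map_inv, hte, inv_mul_cancel]
    exact congrArg Subtype.val h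
  have hfix : ∀ x ∈ B, ((c' : N) : G) * x * ((c' : N) : G)⁻¹ = x := fun x hx => by
    have h := congrArg (fun f : MulAut B => ((f ⟨x, hx⟩ : B) : G)) hc'1
    exact h
  have hsm : ∀ x ∈ A₂, ∀ hx : x ∈ H₀, c' * ⟨x, hx⟩ * c'⁻¹ ∈ (T₁ : Subgroup H₀) := by
    intro x hx hxH
    have h1 : c * ⟨x, hxH⟩ * c⁻¹ ∈ (T₁ : Subgroup H₀) := by
      rw [← hc, Sylow.smul_def, Sylow.pointwise_smul_def]
      exact ⟨_, hT₂ hx, rfl⟩
    rw [hc', show t⁻¹ * c * ⟨x, hxH⟩ * (t⁻¹ * c)⁻¹ = t⁻¹ * (c * ⟨x, hxH⟩ * c⁻¹) * t by group]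
    exact mul_mem (mul_mem (inv_mem ht) h1) ht
  have hck : ((c' : N) : G) * k ∈ normalizer (C.A : Set G) := by
    refine mem_normalizer_of_cj_eq (C.weakly ((T₁.2.map H₀.subtype).map N.subtype) ?_ ?_)
    · intro a ha
      exact ⟨⟨a, hAN ha⟩, ⟨⟨⟨a, hAN ha⟩, le_comap_map ψ _ (mem_sup_left ha)⟩, hT₁ ha, rfl⟩, rfl⟩
    · rw [cj_mul]
      rintro _ ⟨x, hx, rfl⟩
      have hxH : (⟨x, hA'N hx⟩ : N) ∈ H₀ := le_comap_map ψ _ (mem_sup_right hx)
      exact ⟨_, ⟨_, hsm ⟨x, hA'N hx⟩ hx hxH, rfl⟩, rfl⟩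
  have hkw : k * w * k⁻¹ ∈ B := hinB hk (cent_le_box hy hw)
  refine hmove ?_
  rw [← box_inf_A hy]
  refine ⟨hkw, ?_⟩
  have h := C.conj_A hck (C.mem_cent.1 hw).1
  rwa [show ((c' : N) : G) * k * w * (((c' : N) : G) * k)⁻¹ =
    ((c' : N) : G) * (k * w * k⁻¹) * ((c' : N) : G)⁻¹ by group, hfix _ hkw] at h

/-- An elementary subgroup of order 32 of the Sylow subgroup is normalized by the abelian one; if it
is not inside it and meets it in sixteen elements it is a box. -/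
theorem elementary_cases {B : Subgroup G} (hBT : B ≤ (C.T : Subgroup G)) (hB : Nat.card B = 32)
    (hsq : ∀ b ∈ B, b * b = 1) (hBA : ¬ B ≤ C.A) :
    C.A ≤ normalizer (B : Set G) ∧
      (Nat.card (B ⊓ C.A : Subgroup G) = 16 → ∃ y, ∃ hy : C.Outer y, B = C.box hy) := by
  classical
  obtain ⟨y, hyB, hyA⟩ := SetLike.not_le_iff_exists.1 hBA
  have hy : C.Outer y := ⟨hBT hyB, hyA, hsq y hyB⟩
  have hcomm : ∀ a ∈ B, ∀ b ∈ B, a * b = b * a := fun a ha b hb => by
    have h := hsq _ (mul_mem ha hb)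
    have hai : a⁻¹ = a := inv_eq_of_mul_eq_one_right (hsq a ha)
    have hbi : b⁻¹ = b := inv_eq_of_mul_eq_one_right (hsq b hb)
    calc a * b = (a * b)⁻¹ := (inv_eq_of_mul_eq_one_right h).symm
      _ = b * a := by rw [_root_.mul_inv_rev, hai, hbi]
  obtain ⟨v, x, hve, hx, hxx, hxv⟩ := hy.nf
  choose fv fx hf using fun b : B => C.nf (hBT b.2)
  have hfxx : ∀ b : B, mulU (fx b) (fx b) = 0 := fun b => by
    have h := hsq _ b.2
    rw [hf b, C.toFrame.nf_mul] at h
    exact (C.toFrame.nf_inj (w := 0) (y := 0)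
      (h.trans (by rw [C.toFrame.ι_zero, C.toFrame.ρ_zero, one_mul]))).2
  have hfxc : ∀ a b : B, mulU (fx a) (fx b) = mulU (fx b) (fx a) := fun a b => by
    have h := hcomm _ a.2 _ b.2
    rw [hf a, hf b, C.toFrame.nf_mul, C.toFrame.nf_mul] at h
    exact (C.toFrame.nf_inj h).2
  have hmap : ∀ {a : G}, a ∈ C.A → (∀ b ∈ B, a * b * a⁻¹ ∈ B) → a ∈ normalizer (B : Set G) := by
    intro a ha h
    refine mem_normalizer_of_cj_eq (eq_of_le_of_card_ge ?_ (card_cj _ _).ge)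
    rintro _ ⟨b, hb, rfl⟩
    exact h b hb
  by_cases hone : ∀ b ∈ B, b ∈ C.A ∨ b * y ∈ C.A
  · have hle : B ≤ C.box hy := fun b hb => by
      rcases hone b hb with h | h
      · exact Or.inl (C.mem_cent.2 ⟨h, hcomm y hyB b hb⟩)
      · exact Or.inr (C.mem_cent.2 ⟨h, hcomm y hyB _ (mul_mem hb hyB)⟩)
    have hcard : Nat.card (C.box hy) ≤ 32 := by
      have h2 : Nat.card (C.box hy) ≤ 2 * Nat.card (C.cent y) := by
        let f : Bool × C.cent y → C.box hy := fun q =>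
          ⟨if q.1 then (q.2 : G) * y else q.2, by
            cases q.1
            · exact cent_le_box hy q.2.2
            · exact mul_mem (cent_le_box hy q.2.2) (self_mem_box hy)⟩
        have hf' : Function.Surjective f := by
          rintro ⟨g, hg | hg⟩
          · exact ⟨(false, ⟨g, hg⟩), rfl⟩
          · refine ⟨(true, ⟨g * y, hg⟩), Subtype.ext ?_⟩
            show g * y * y = g
            rw [mul_assoc, hy.sq, mul_one]
        refine (Nat.card_le_card_of_surjective f hf').trans ?_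
        rw [Nat.card_prod, Nat.card_eq_fintype_card (α := Bool), Fintype.card_bool]
      rw [hy.card_cent] at h2
      omega
    have heq : B = C.box hy := eq_of_le_of_card_ge hle (hB ▸ hcard)
    exact ⟨heq ▸ A_le_normalizer_box hy, fun _ => ⟨y, hy, heq⟩⟩
  push Not at hone
  obtain ⟨y₂, hy₂B, hy₂A, hy₂y⟩ := hone
  have hy₂ : C.Outer y₂ := ⟨hBT hy₂B, hy₂A, hsq y₂ hy₂B⟩
  obtain ⟨v₂, x₂, hve₂, hx₂, hxx₂, -⟩ := hy₂.nf
  have hfx : ∀ (b : B) (w : Fin 64) (z : Fin 8), (b : G) = C.ι w * C.ρ z → fx b = z :=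
    fun b w z h => (C.toFrame.nf_inj ((hf b).symm.trans h)).2
  have hne : x ≠ x₂ := fun e => hy₂y (by
    rw [hve, hve₂, C.toFrame.nf_mul, C.toFrame.nf_mem_A, e, hxx₂])
  have hxc : mulU x x₂ = mulU x₂ x := by
    have h := hfxc ⟨y, hyB⟩ ⟨y₂, hy₂B⟩
    rwa [hfx ⟨y, hyB⟩ v x hve, hfx ⟨y₂, hy₂B⟩ v₂ x₂ hve₂] at h
  -- the common fixed vectors
  set K := B ⊓ C.A with hK
  set E := C.cent y ⊓ C.cent y₂ with hE
  have hKE : K ≤ E := fun b hb =>
    ⟨C.mem_cent.2 ⟨hb.2, hcomm y hyB b hb.1⟩, C.mem_cent.2 ⟨hb.2, hcomm y₂ hy₂B b hb.1⟩⟩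
  have hEcard : Nat.card E ≤ 8 := by
    refine le_trans ?_ (common_card x x₂ hx hx₂ hne hxx hxx₂ hxc)
    rw [← Fintype.card_subtype, ← Nat.card_eq_fintype_card]
    refine Nat.card_le_card_of_surjective
      (fun w : {w // act x w = w ∧ act x₂ w = w} => (⟨C.ι w,
        hve.symm ▸ (C.ι_mem_cent v w x).2 w.2.1,
        hve₂.symm ▸ (C.ι_mem_cent v₂ w x₂).2 w.2.2⟩ : E)) ?_
    rintro ⟨g, hg1, hg2⟩
    obtain ⟨w, rfl⟩ := (C.mem_cent.1 hg1).1
    exact ⟨⟨w, (C.ι_mem_cent v w x).1 (hve ▸ hg1), (C.ι_mem_cent v₂ w x₂).1 (hve₂ ▸ hg2)⟩, rfl⟩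
  have hreps : ∀ b : B, ∃ i : Fin 4,
      (b : G) * ![1, y, y₂, y * y₂] i ∈ C.A := by
    intro b
    have hz : ∀ (g : G) (w : Fin 64) (z : Fin 8), g = C.ι w * C.ρ z → fx b = z → (b : G) * g ∈ C.A := by
      intro g w z hg he
      rw [hf b, hg, C.toFrame.nf_mul, C.toFrame.nf_mem_A, ← he]
      exact hfxx b
    rcases third_invol x x₂ (fx b) hx hx₂ hne hxx hxx₂ hxc (hfxx b)
      (by have h := hfxc ⟨y, hyB⟩ b; rwa [hfx ⟨y, hyB⟩ v x hve] at h)
      (by have h := hfxc ⟨y₂, hy₂B⟩ b; rwa [hfx ⟨y₂, hy₂B⟩ v₂ x₂ hve₂] at h) with e | e | e | e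
    · exact ⟨0, hz 1 0 0 (by rw [C.toFrame.ι_zero, C.toFrame.ρ_zero, one_mul]) e⟩
    · exact ⟨1, hz y v x hve e⟩
    · exact ⟨2, hz y₂ v₂ x₂ hve₂ e⟩
    · exact ⟨3, hz (y * y₂) _ _ (by rw [hve, hve₂, C.toFrame.nf_mul]) e⟩
  choose idx hidx using hreps
  have hrB : ∀ i : Fin 4, ![1, y, y₂, y * y₂] i ∈ B := by
    intro i
    fin_cases i
    exacts [one_mem _, hyB, hy₂B, mul_mem hyB hy₂B]
  have hcardK : 32 ≤ 4 * Nat.card K := by
    have h := Nat.card_le_card_of_injective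
      (fun b : B => (idx b, (⟨(b : G) * ![1, y, y₂, y * y₂] (idx b),
        mul_mem b.2 (hrB _), hidx b⟩ : K))) (fun a b hab => by
      simp only [Prod.mk.injEq, Subtype.mk.injEq] at hab
      obtain ⟨e1, e2⟩ := hab
      have e3 := congrArg (fun t : K => (t : G)) e2
      simp only [e1] at e3
      exact Subtype.ext (mul_right_cancel e3))
    rw [hB, Nat.card_prod, Nat.card_eq_fintype_card (α := Fin 4), Fintype.card_fin] at h
    exact h
  have hKeq : K = E := eq_of_le_of_card_ge hKE (by omega)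
  refine ⟨fun a ha => hmap ha fun b hb => ?_, fun h => ?_⟩
  · obtain ⟨i, hi⟩ : ∃ i : Fin 4, b * ![1, y, y₂, y * y₂] i ∈ C.A := ⟨_, hidx ⟨b, hb⟩⟩
    -- the commutators of both are common fixed vectors
    have key : ∀ (y₁ : G) (v₁ : Fin 64) (x₁ : Fin 8), C.Outer y₁ → y₁ ∈ B →
        y₁ = C.ι v₁ * C.ρ x₁ → mulU x x₁ = mulU x₁ x → mulU x₂ x₁ = mulU x₁ x₂ →
        a * y₁ * a⁻¹ ∈ B := by
      intro y₁ v₁ x₁ h₁ h₁B he₁ hc1 hc2
      obtain ⟨d, hd, hdy, hdd⟩ := conj_by_A h₁ ha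
      obtain ⟨w, rfl⟩ := ha
      have hd' : d = C.ι (dlt x₁ w) := by
        rw [hdd, he₁, C.toFrame.nf_conj, dlt, vadd_comm, C.ι_mul]
      have hxx₁ : mulU x₁ x₁ = 0 ∧ x₁ ≠ 0 := by
        obtain ⟨v', x', he', hx', hxx', -⟩ := h₁.nf
        obtain ⟨-, e⟩ := C.toFrame.nf_inj (he₁.symm.trans he')
        exact e ▸ ⟨hxx', hx'⟩
      have hdE : d ∈ E := by
        refine mem_inf.2 ⟨?_, ?_⟩
        · rw [hd', hve, C.ι_mem_cent]
          exact (commuting_facts x₁ x hxx₁.2 hxx₁.1 hc1.symm).2 w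
        · rw [hd', hve₂, C.ι_mem_cent]
          exact (commuting_facts x₁ x₂ hxx₁.2 hxx₁.1 hc2.symm).2 w
      rw [← hKeq] at hdE
      rw [hdy]
      exact mul_mem hdE.1 h₁B
    have k1 := key y v x hy hyB hve rfl hxc.symm
    have k2 := key y₂ v₂ x₂ hy₂ hy₂B hve₂ hxc rfl
    have k3 : a * (b * ![1, y, y₂, y * y₂] i) * a⁻¹ = b * ![1, y, y₂, y * y₂] i := by
      rw [C.toFrame.comm_of_mem ha hi, mul_inv_cancel_right]
    have k4 : a * ![1, y, y₂, y * y₂] i * a⁻¹ ∈ B := by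
      fin_cases i
      · simpa using one_mem B
      · exact k1
      · exact k2
      · show a * (y * y₂) * a⁻¹ ∈ B
        rw [show a * (y * y₂) * a⁻¹ = a * y * a⁻¹ * (a * y₂ * a⁻¹) by group]
        exact mul_mem k1 k2
    rw [show a * b * a⁻¹ = a * (b * ![1, y, y₂, y * y₂] i) * a⁻¹ *
      (a * ![1, y, y₂, y * y₂] i * a⁻¹)⁻¹ by group, k3]
    exact mul_mem (mul_mem hb (hrB i)) (inv_mem k4)
  · rw [hKeq] at h
    omega

/-- The abelian subgroup is strongly closed. -/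
theorem closed : Cfsg.IsStronglyClosed C.A (C.T : Subgroup G) := by
  refine ⟨C.A_le_T, fun a ha g hg => ?_⟩
  by_contra hyA
  set y := g * a * g⁻¹ with hy0
  have hy : C.Outer y := ⟨hg, hyA, by
    rw [hy0, show g * a * g⁻¹ * (g * a * g⁻¹) = g * (a * a) * g⁻¹ by group,
      C.toFrame.sq_of_mem ha, mul_one, mul_inv_cancel]⟩
  set B := C.box hy with hB
  have hBT := box_le_T hy
  have hBp : IsPGroup 2 B := C.T.isPGroup'.to_le hBT
  -- move the box into the Sylow subgroup, `y` into `A`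
  have hAa : C.A ≤ centralizer {a} := fun x hx => mem_centralizer_iff.2 fun _ e => by
    rw [Set.mem_singleton_iff.1 e]; exact C.toFrame.comm_of_mem ha hx
  have hBa : cj g⁻¹ B ≤ centralizer {a} := by
    rintro _ ⟨x, hx, rfl⟩
    refine mem_centralizer_iff.2 fun _ e => ?_
    rw [Set.mem_singleton_iff.1 e]
    have h := congrArg (fun t => g⁻¹ * t * g) (box_comm hy _ (self_mem_box hy) _ hx)
    simpa [hy0, mul_assoc] using h
  obtain ⟨Q₁, hAQ₁, hQ₁, hQ₁p, hconj₁⟩ := exists_sylow_in C.isPGroup_A hAa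
  obtain ⟨h, hh, hhle⟩ := hconj₁ _ hBa (hBp.map _)
  obtain ⟨m, hm, hmle⟩ := C.to_T hQ₁p hAQ₁
  set n := m * h * g⁻¹ with hn
  have hny : n * y * n⁻¹ ∈ C.A := by
    have hha : h * a * h⁻¹ = a := by
      rw [← mem_centralizer_iff.1 hh a rfl, mul_inv_cancel_right]
    rw [hn, hy0, show m * h * g⁻¹ * (g * a * g⁻¹) * (m * h * g⁻¹)⁻¹ = m * (h * a * h⁻¹) * m⁻¹ by
      group, hha]
    exact C.conj_A hm ha
  set B' := cj n B with hB'
  have hB'T : B' ≤ (C.T : Subgroup G) := by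
    rw [hB', hn, cj_mul, cj_mul]
    exact (cj_mono hhle).trans hmle
  by_cases hB'A : B' ≤ C.A
  · -- Burnside in the centralizer of the sixteen fixed vectors
    set K := centralizer (C.cent y : Set G) with hK
    have hAK : C.A ≤ K := fun x hx => mem_centralizer_iff.2 fun c hc =>
      C.toFrame.comm_of_mem (C.mem_cent.1 hc).1 hx
    have hA'K : cj n⁻¹ C.A ≤ K := fun x hx => mem_centralizer_iff.2 fun c hc => by
      rw [mem_cj, inv_inv] at hx
      have hcA : n * c * n⁻¹ ∈ C.A := hB'A (conj_mem_cj (cent_le_box hy hc))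
      have h' := congrArg (fun t => n⁻¹ * t * n) (C.toFrame.comm_of_mem hcA hx)
      simpa [mul_assoc] using h'
    obtain ⟨k, hk, hkn⟩ := C.align hAK hA'K
    have hky : k * y * k⁻¹ ∈ C.A := by
      have h' := C.conj_A hkn hny
      rwa [show k * n⁻¹ * (n * y * n⁻¹) * (k * n⁻¹)⁻¹ = k * y * k⁻¹ by group] at h'
    have hyK : y ∈ K := mem_centralizer_iff.2 fun c hc => (C.mem_cent.1 hc).2.symm
    have hAy : C.A ⊔ zpowers y ≤ (C.T : Subgroup G) := sup_le C.A_le_T (zpowers_le.2 hy.mem)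
    obtain ⟨Q, hAyQ, hQK, hQp, hconj⟩ := exists_sylow_in (C.T.isPGroup'.to_le hAy)
      (sup_le hAK (zpowers_le.2 hyK))
    have hAQ : C.A ≤ Q := le_sup_left.trans hAyQ
    have hyQ : y ∈ Q := hAyQ (mem_sup_right (mem_zpowers y))
    obtain ⟨m₁, hm₁, hm₁le⟩ := C.to_T hQp hAQ
    have hQ2 : ∀ q ∈ Q, q ∈ C.A ∨ q * y ∈ C.A := by
      intro q hq
      have hy' := hy.conj hm₁ (hm₁le (conj_mem_cj hyQ))
      obtain ⟨v, x, hve, hx, hxx, -⟩ := hy'.nf
      obtain ⟨w, z, hwe⟩ := C.nf (hm₁le (conj_mem_cj hq))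
      change m₁ * q * m₁⁻¹ = _ at hwe
      have hfix : ∀ t, act x t = t → act z t = t := by
        intro t ht
        have htC : C.ι t ∈ C.cent (m₁ * y * m₁⁻¹) := hve ▸ (C.ι_mem_cent v t x).2 ht
        rw [← C.cj_cent hm₁, mem_cj] at htC
        have hc : Commute q (m₁⁻¹ * C.ι t * m₁) := (mem_centralizer_iff.1 (hQK hq) _ htC).symm
        refine (C.toFrame.nf_commute w z t).1 ?_
        rw [← hwe]
        have h' := hc.map (MulAut.conj m₁).toMonoidHom
        simpa [mul_assoc] using h'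
      have hnA : ∀ r : G, m₁ * r * m₁⁻¹ ∈ C.A → r ∈ C.A := fun r hr =>
        (mem_normalizer_iff.1 hm₁ r).2 hr
      rcases fixed_determine x z hx hxx hfix with e | e
      · exact Or.inl (hnA q (by rw [hwe, C.toFrame.nf_mem_A, e]))
      · refine Or.inr (hnA _ ?_)
        rw [show m₁ * (q * y) * m₁⁻¹ = m₁ * q * m₁⁻¹ * (m₁ * y * m₁⁻¹) by group, hwe, hve,
          C.toFrame.nf_mul, C.toFrame.nf_mem_A, e, hxx]
    -- both boxes are normal in `Q`
    have hQn : ∀ q ∈ Q, q ∈ normalizer (B : Set G) ∧ q ∈ normalizer (cj k B : Set G) := by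
      have hfixc : ∀ c ∈ C.cent y, k * c * k⁻¹ = c := fun c hc => by
        rw [← mem_centralizer_iff.1 hk c hc, mul_inv_cancel_right]
      have hkB : ∀ b ∈ B, k * b * k⁻¹ ∈ C.A := fun b hb => by
        rcases hb with hb | hb
        · rw [hfixc b hb]; exact (C.mem_cent.1 hb).1
        · have h' := mul_mem (show k * (b * y) * k⁻¹ ∈ C.A by
            rw [hfixc _ hb]; exact (C.mem_cent.1 hb).1) hky
          rwa [show k * (b * y) * k⁻¹ * (k * y * k⁻¹) = k * (b * (y * y)) * k⁻¹ by group, hy.sq,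
            mul_one] at h'
      have hA2 : ∀ q ∈ C.A, q ∈ normalizer (cj k B : Set G) := fun q hq => by
        refine mem_normalizer_of_cj_eq (eq_of_le_of_card_ge ?_ (card_cj _ _).ge)
        rintro _ ⟨_, ⟨b, hb, rfl⟩, rfl⟩
        show q * (k * b * k⁻¹) * q⁻¹ ∈ _
        rw [C.toFrame.comm_of_mem hq (hkB b hb), mul_inv_cancel_right]
        exact conj_mem_cj hb
      have hy1 : y ∈ normalizer (B : Set G) := Subgroup.le_normalizer (self_mem_box hy)
      have hy2 : y ∈ normalizer (cj k B : Set G) := by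
        refine mem_normalizer_of_cj_eq (eq_of_le_of_card_ge ?_ (card_cj _ _).ge)
        rintro _ ⟨_, ⟨b, hb, rfl⟩, rfl⟩
        show y * (k * b * k⁻¹) * y⁻¹ ∈ _
        set e := k * b * k⁻¹ with he
        have hcent := C.comm_mem_cent hy (hkB b hb)
        have hyA' : y * e * y⁻¹ ∈ C.A := C.toFrame.conj_mem_A (C.hT.symm ▸ hy.mem) (hkB b hb)
        rw [show y * e * y⁻¹ = e⁻¹ * (e * (y * e * y⁻¹)) by group]
        refine mul_mem (inv_mem (conj_mem_cj hb)) ?_
        rw [← hfixc _ hcent]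
        exact conj_mem_cj (cent_le_box hy hcent)
      intro q hq
      rcases hQ2 q hq with h' | h'
      · exact ⟨A_le_normalizer_box hy h', hA2 q h'⟩
      · have e : q = q * y * y⁻¹ := by group
        rw [e]
        exact ⟨mul_mem (A_le_normalizer_box hy h') (inv_mem hy1),
          mul_mem (hA2 _ h') (inv_mem hy2)⟩
    have hKQ : Q ≤ K ⊓ normalizer (B : Set G) := le_inf hQK fun q hq => (hQn q hq).1
    have hKQ' : cj k⁻¹ Q ≤ K ⊓ normalizer (B : Set G) := by
      rintro _ ⟨q, hq, rfl⟩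
      show k⁻¹ * q * k⁻¹⁻¹ ∈ _
      refine mem_inf.2 ⟨mul_mem (mul_mem (inv_mem hk) (hQK hq)) (by rw [inv_inv]; exact hk), ?_⟩
      refine mem_normalizer_of_cj_eq ?_
      rw [cj_mul, cj_mul, inv_inv, cj_eq_of_mem_normalizer (hQn q hq).2, cj_inv_cancel]
    obtain ⟨Q₂, hQQ₂, hQ₂K, hQ₂p, hconj₂⟩ := exists_sylow_in hQp hKQ
    have hQ₂Q : Q₂ = Q := by
      obtain ⟨k', hk', hle'⟩ := hconj _ (hQ₂K.trans inf_le_left) hQ₂p
      refine (eq_of_le_of_card_ge hQQ₂ ?_).symm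
      rw [← card_cj k' Q₂]
      exact card_le_of_le hle'
    obtain ⟨j, hj, hjle⟩ := hconj₂ _ hKQ' (hQp.map _)
    rw [hQ₂Q, ← cj_mul] at hjle
    have hn' : j * k⁻¹ ∈ normalizer (C.A : Set G) :=
      mem_normalizer_of_cj_eq (C.weakly hQp hAQ ((cj_mono hAQ).trans hjle))
    have hy' : j⁻¹ * y * j ∈ B := by
      have h' := (mem_normalizer_iff.1 (inv_mem hj.2) y).1 (self_mem_box hy)
      rwa [inv_inv] at h'
    have hkjA : k * (j⁻¹ * y * j) * k⁻¹ ∈ C.A := by
      rcases hy' with h' | h'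
      · rw [← mem_centralizer_iff.1 hk _ h', mul_inv_cancel_right]
        exact (C.mem_cent.1 h').1
      · have hb : j⁻¹ * y * j = j⁻¹ * y * j * y * y := by rw [mul_assoc _ y y, hy.sq, mul_one]
        rw [hb, show k * (j⁻¹ * y * j * y * y) * k⁻¹ =
          k * (j⁻¹ * y * j * y) * k⁻¹ * (k * y * k⁻¹) by group,
          ← mem_centralizer_iff.1 hk _ h', mul_inv_cancel_right]
        exact mul_mem (C.mem_cent.1 h').1 hky
    have h' := (mem_normalizer_iff.1 hn' _).1 hkjA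
    rw [show j * k⁻¹ * (k * (j⁻¹ * y * j) * k⁻¹) * (j * k⁻¹)⁻¹ = y by group] at h'
    exact hyA h'
  · -- between two boxes
    have hsq' : ∀ b ∈ B', b * b = 1 := by
      rintro _ ⟨b, hb, rfl⟩
      rw [← map_mul]
      have hbb : b * b = 1 := by
        rcases hb with hb | hb
        · exact C.toFrame.sq_of_mem (C.mem_cent.1 hb).1
        · have h' := C.toFrame.sq_of_mem (C.mem_cent.1 hb).1
          rwa [show b * y * (b * y) = b * (y * b) * y by group,
            box_comm hy y (self_mem_box hy) b (Or.inr hb),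
            show b * (b * y) * y = b * b * (y * y) by group, hy.sq, mul_one] at h'
      rw [hbb, map_one]
    have hB32 : Nat.card B = 32 := by
      let f : Bool × C.cent y → B := fun q =>
        ⟨if q.1 then (q.2 : G) * y else q.2, by
          cases q.1
          · exact cent_le_box hy q.2.2
          · exact mul_mem (cent_le_box hy q.2.2) (self_mem_box hy)⟩
      have hf : Function.Bijective f := by
        refine ⟨?_, ?_⟩
        · rintro ⟨b1, c1, h1⟩ ⟨b2, c2, h2⟩ e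
          have e' := congrArg Subtype.val e
          cases b1 <;> cases b2 <;> simp [f] at e'
          · subst e'; rfl
          · refine absurd ?_ hy.notMem
            rw [show y = c2⁻¹ * c1 by rw [e', inv_mul_cancel_left]]
            exact mul_mem (inv_mem (C.mem_cent.1 h2).1) (C.mem_cent.1 h1).1
          · refine absurd ?_ hy.notMem
            rw [show y = c1⁻¹ * c2 by rw [← e', inv_mul_cancel_left]]
            exact mul_mem (inv_mem (C.mem_cent.1 h1).1) (C.mem_cent.1 h2).1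
          · subst e'; rfl
        · rintro ⟨b, hb | hb⟩
          · exact ⟨(false, ⟨b, hb⟩), rfl⟩
          · refine ⟨(true, ⟨b * y, hb⟩), Subtype.ext ?_⟩
            show b * y * y = b
            rw [mul_assoc, hy.sq, mul_one]
      rw [← Nat.card_congr (Equiv.ofBijective f hf), Nat.card_prod, hy.card_cent,
        Nat.card_eq_fintype_card (α := Bool), Fintype.card_bool]
    obtain ⟨hAn, hbox⟩ := elementary_cases hB'T (by rw [hB', card_cj, hB32]) hsq' hB'A
    have hA'n : cj n C.A ≤ normalizer (B' : Set G) := by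
      rintro _ ⟨x, hx, rfl⟩
      refine mem_normalizer_of_cj_eq ?_
      show cj (n * x * n⁻¹) B' = B'
      rw [hB', ← cj_mul, show n * x * n⁻¹ * n = n * x by group, cj_mul,
        cj_eq_of_mem_normalizer (A_le_normalizer_box hy hx)]
    obtain ⟨k, hk, hkn⟩ := C.align hAn hA'n
    have hcjB : cj (k * n) B = B' := by
      rw [cj_mul, ← hB', cj_eq_of_mem_normalizer hk]
    have hinf : B' ⊓ C.A = cj (k * n) (C.cent y) := by
      rw [← box_inf_A hy]
      ext x
      rw [mem_inf, mem_cj (g := k * n), mem_inf, ← mem_cj (g := k * n), hcjB,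
        ← mem_cj (g := k * n), cj_eq_of_mem_normalizer hkn]
    obtain ⟨y', hy', hBeq⟩ := hbox (by rw [hinf, card_cj, hy.card_cent])
    have hx : n * y * n⁻¹ ∈ C.cent y' := by
      rw [← box_inf_A hy', ← hBeq]
      exact ⟨conj_mem_cj (self_mem_box hy), hny⟩
    have hout := conj_mem_cent hy' (hBeq ▸ hk) hx
    refine hy.notMem ((mem_normalizer_iff.1 hkn y).2 ?_)
    rw [show k * n * y * (k * n)⁻¹ = k * (n * y * n⁻¹) * k⁻¹ by group]
    exact (C.mem_cent.1 hout).1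

end Ctx

end CfsgLib.M24Type
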