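import Cfsg.Agent.M24Type.Model
import Mathlib.GroupTheory.OrderOfElement
import Mathlib.GroupTheory.Abelianization.Defs

/-!
# A group containing a copy of the model

`ι` embeds the vectors and `ρ` the dihedral complement; `A` is the image of the vectors and `S` the
product.
-/

set_option autoImplicit false
set_option linter.style.haveILetI false

namespace CfsgLib.M24Type

open Subgroup

universe u v

/-- A copy of the model inside `G`. -/
structure Frame (G : Type u) [Group G] where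
  /-- The vectors. -/
  ι : Fin 64 → G
  /-- The complement. -/
  ρ : Fin 8 → G
  ι_mul : ∀ v w, ι v * ι w = ι (vadd v w)
  ρ_mul : ∀ x y, ρ x * ρ y = ρ (mulU x y)
  ρ_ι : ∀ x v, ρ x * ι v = ι (act x v) * ρ x
  ι_inj : Function.Injective ι
  ρ_notMem : ∀ x, x ≠ 0 → ∀ v, ρ x ≠ ι v

variable {G : Type u} [Group G] (F : Frame G)

namespace Frame

theorem ι_zero : F.ι 0 = 1 := by
  have h := F.ι_mul 0 0
  rwa [vadd_self, mul_eq_left] at h

theorem ρ_zero : F.ρ 0 = 1 := by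
  have h := F.ρ_mul 0 0
  rwa [(mulU_zero 0).1, mul_eq_left] at h

theorem ι_inv (v : Fin 64) : (F.ι v)⁻¹ = F.ι v := by
  refine inv_eq_of_mul_eq_one_right ?_
  rw [F.ι_mul, vadd_self, F.ι_zero]

theorem ι_comm (v w : Fin 64) : F.ι v * F.ι w = F.ι w * F.ι v := by
  rw [F.ι_mul, F.ι_mul, vadd_comm]

theorem ι_eq_one {v : Fin 64} : F.ι v = 1 ↔ v = 0 := by
  rw [← F.ι_zero, F.ι_inj.eq_iff]

theorem conj_ι (x : Fin 8) (v : Fin 64) : F.ρ x * F.ι v * (F.ρ x)⁻¹ = F.ι (act x v) := by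
  rw [F.ρ_ι, mul_inv_cancel_right]

/-- The product of two elements in normal form. -/
theorem nf_mul (v w : Fin 64) (x y : Fin 8) :
    F.ι v * F.ρ x * (F.ι w * F.ρ y) = F.ι (vadd v (act x w)) * F.ρ (mulU x y) := by
  rw [mul_assoc, ← mul_assoc (F.ρ x), F.ρ_ι, mul_assoc (F.ι (act x w)), F.ρ_mul, ← mul_assoc,
    F.ι_mul]

theorem nf_inj {v w : Fin 64} {x y : Fin 8} (h : F.ι v * F.ρ x = F.ι w * F.ρ y) :
    v = w ∧ x = y := by
  obtain ⟨y', hy, -⟩ := mulU_inv y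
  have h' : F.ρ (mulU x y') = F.ι (vadd v w) := by
    rw [← F.ρ_mul, ← F.ι_mul]
    have h1 : F.ρ y * F.ρ y' = 1 := by rw [F.ρ_mul, hy, F.ρ_zero]
    calc F.ρ x * F.ρ y' = (F.ι v)⁻¹ * (F.ι v * F.ρ x) * F.ρ y' := by group
      _ = (F.ι v)⁻¹ * F.ι w * (F.ρ y * F.ρ y') := by rw [h]; group
      _ = F.ι v * F.ι w := by rw [h1, mul_one, F.ι_inv]
  have hx : mulU x y' = 0 := by
    by_contra hne
    exact F.ρ_notMem _ hne _ h'
  have hρ : F.ρ x = F.ρ y := by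
    have h1 : F.ρ x * F.ρ y' = 1 := by rw [F.ρ_mul, hx, F.ρ_zero]
    have h2 : F.ρ y * F.ρ y' = 1 := by rw [F.ρ_mul, hy, F.ρ_zero]
    exact mul_right_cancel (h1.trans h2.symm)
  exact ⟨F.ι_inj (mul_right_cancel (h.trans (by rw [hρ]))),
    mulU_cancel x y y' hx hy⟩

/-- The image of the vectors. -/
def A : Subgroup G where
  carrier := Set.range F.ι
  one_mem' := ⟨0, F.ι_zero⟩
  mul_mem' := by rintro _ _ ⟨v, rfl⟩ ⟨w, rfl⟩; exact ⟨_, (F.ι_mul v w).symm⟩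
  inv_mem' := by rintro _ ⟨v, rfl⟩; exact ⟨v, (F.ι_inv v).symm⟩

/-- The copy of the model. -/
def S : Subgroup G where
  carrier := {g | ∃ v x, g = F.ι v * F.ρ x}
  one_mem' := ⟨0, 0, by rw [F.ι_zero, F.ρ_zero, one_mul]⟩
  mul_mem' := by rintro _ _ ⟨v, x, rfl⟩ ⟨w, y, rfl⟩; exact ⟨_, _, F.nf_mul v w x y⟩
  inv_mem' := by
    rintro _ ⟨v, x, rfl⟩
    obtain ⟨y, hy1, hy2⟩ := mulU_inv x
    refine ⟨act y v, y, inv_eq_of_mul_eq_one_right ?_⟩
    rw [F.nf_mul, act_act, hy1, act_zero_left, vadd_self, F.ι_zero, F.ρ_zero, one_mul]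

theorem mem_A {g : G} : g ∈ F.A ↔ ∃ v, F.ι v = g := Iff.rfl

theorem mem_S {g : G} : g ∈ F.S ↔ ∃ v x, g = F.ι v * F.ρ x := Iff.rfl

theorem ι_mem (v : Fin 64) : F.ι v ∈ F.A := ⟨v, rfl⟩

theorem A_le : F.A ≤ F.S := by
  rintro _ ⟨v, rfl⟩
  exact ⟨v, 0, by rw [F.ρ_zero, mul_one]⟩

theorem ρ_mem (x : Fin 8) : F.ρ x ∈ F.S := ⟨0, x, by rw [F.ι_zero, one_mul]⟩

theorem sq_of_mem {a : G} (ha : a ∈ F.A) : a * a = 1 := by
  obtain ⟨v, rfl⟩ := ha
  rw [F.ι_mul, vadd_self, F.ι_zero]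

theorem comm_of_mem {a b : G} (ha : a ∈ F.A) (hb : b ∈ F.A) : a * b = b * a := by
  obtain ⟨v, rfl⟩ := ha
  obtain ⟨w, rfl⟩ := hb
  exact F.ι_comm v w

theorem nf_conj (v : Fin 64) (x : Fin 8) (w : Fin 64) :
    F.ι v * F.ρ x * F.ι w * (F.ι v * F.ρ x)⁻¹ = F.ι (act x w) := by
  calc F.ι v * F.ρ x * F.ι w * (F.ι v * F.ρ x)⁻¹
      = F.ι v * (F.ρ x * F.ι w * (F.ρ x)⁻¹) * (F.ι v)⁻¹ := by group
    _ = F.ι (act x w) := by rw [F.conj_ι, F.ι_comm v, mul_inv_cancel_right]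

theorem nf_commute (v : Fin 64) (x : Fin 8) (w : Fin 64) :
    Commute (F.ι v * F.ρ x) (F.ι w) ↔ act x w = w := by
  rw [commute_iff_eq, ← mul_inv_eq_iff_eq_mul, F.nf_conj, F.ι_inj.eq_iff]

theorem conj_mem_A {g a : G} (hg : g ∈ F.S) (ha : a ∈ F.A) : g * a * g⁻¹ ∈ F.A := by
  obtain ⟨v, x, rfl⟩ := hg
  obtain ⟨w, rfl⟩ := ha
  exact ⟨_, (F.nf_conj v x w).symm⟩

theorem nf_mem_A {v : Fin 64} {x : Fin 8} : F.ι v * F.ρ x ∈ F.A ↔ x = 0 := by
  constructor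
  · rintro ⟨w, hw⟩
    exact (F.nf_inj (v := v) (x := x) (w := w) (y := 0)
      (hw.symm.trans (by rw [F.ρ_zero, mul_one]))).2
  · rintro rfl
    exact ⟨v, by rw [F.ρ_zero, mul_one]⟩

theorem centralizer_le {g : G} (hg : g ∈ F.S) (h : ∀ a ∈ F.A, Commute g a) : g ∈ F.A := by
  obtain ⟨v, x, rfl⟩ := hg
  exact F.nf_mem_A.2 (act_faithful x fun w => (F.nf_commute v x w).1 (h _ (F.ι_mem w)))

theorem card_A [Finite G] : Nat.card F.A = 64 := by
  rw [show Nat.card F.A = Nat.card (Fin 64) from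
      (Nat.card_congr (Equiv.ofInjective F.ι F.ι_inj)).symm, Nat.card_eq_fintype_card,
    Fintype.card_fin]

theorem card_S [Finite G] : Nat.card F.S = 512 := by
  have h : Function.Bijective (fun q : Fin 64 × Fin 8 =>
      (⟨F.ι q.1 * F.ρ q.2, _, _, rfl⟩ : F.S)) := by
    refine ⟨fun a b hab => ?_, ?_⟩
    · obtain ⟨h1, h2⟩ := F.nf_inj (congrArg Subtype.val hab)
      exact Prod.ext h1 h2
    · rintro ⟨_, v, x, rfl⟩
      exact ⟨(v, x), rfl⟩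
  rw [← Nat.card_congr (Equiv.ofBijective _ h), Nat.card_eq_fintype_card, Fintype.card_prod,
    Fintype.card_fin, Fintype.card_fin]

/-- Transport along an injective homomorphism. -/
def map {H : Type v} [Group H] (f : G →* H) (hf : Function.Injective f) : Frame H where
  ι v := f (F.ι v)
  ρ x := f (F.ρ x)
  ι_mul v w := by rw [← map_mul, F.ι_mul]
  ρ_mul x y := by rw [← map_mul, F.ρ_mul]
  ρ_ι x v := by rw [← map_mul, ← map_mul, F.ρ_ι]
  ι_inj := hf.comp F.ι_inj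
  ρ_notMem x hx v h := F.ρ_notMem x hx v (hf h)

theorem map_S {H : Type v} [Group H] (f : G →* H) (hf : Function.Injective f) :
    (F.map f hf).S = F.S.map f := by
  ext g
  constructor
  · rintro ⟨v, x, rfl⟩
    exact ⟨F.ι v * F.ρ x, ⟨v, x, rfl⟩, map_mul f _ _⟩
  · rintro ⟨_, ⟨v, x, rfl⟩, rfl⟩
    exact ⟨v, x, map_mul f _ _⟩

end Frame

end CfsgLib.M24Type
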