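import Cfsg.Agent.M24Type.Closed
import Mathlib.GroupTheory.PGroup
import Mathlib.Data.Fintype.BigOperators
import Mathlib.RingTheory.Coprime.Lemmas

/-!
# Two complementary invariant halves of the abelian subgroup

An odd automorphism normalizing the Sylow subgroup is trivial on `A`. So the sum of the conjugates
of the projection onto the first module is the projection on the fixed vectors of the Sylow
subgroup, and an idempotent power of it splits `A` for the whole normalizer.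
-/

set_option autoImplicit false
set_option linter.style.haveILetI false
set_option linter.unusedSectionVars false
set_option maxRecDepth 100000

namespace CfsgLib.M24Type

open Subgroup
open MulAction (fixedPoints)

/-- The sum of the vectors selected by the bits. -/
def endoV (p q v : Fin 64) : Fin 64 :=
  vadd (vadd (if v.1.testBit 0 then dlt 4 (dlt 7 p) else 0) (if v.1.testBit 1 then dlt 7 p else 0))
    (vadd (vadd (if v.1.testBit 2 then p else 0) (if v.1.testBit 3 then dlt 7 (dlt 4 q) else 0))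
      (vadd (if v.1.testBit 4 then dlt 4 q else 0) (if v.1.testBit 5 then q else 0)))

theorem endoV_self : ∀ v, endoV 4 32 v = v := by decide +kernel

theorem endoV_four : ∀ p q, act 4 p = p → act 7 q = q → endoV p q 1 ≠ 0 → endoV p q 8 ≠ 0 →
    endoV p q 9 ≠ 0 → ∀ i ∈ [(1 : Fin 64), 2, 4, 8, 16, 32],
      endoV p q (endoV p q (endoV p q (endoV p q i))) = i := by decide +kernel

theorem mulU_facts : mulU 1 1 = 2 ∧ mulU 2 2 = 0 ∧ mulU 4 4 = 0 ∧ mulU 7 7 = 0 ∧ mulU 4 7 = 1 ∧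
    mulU 4 7 ≠ mulU 7 4 ∧ ∀ x, mulU 2 x = mulU x 2 := by decide +kernel

theorem eq_id_of_iterate {α : Type*} {f : α → α} (h4 : f^[4] = id) {m : ℕ} (hm : Odd m)
    (h : f^[m] = id) : f = id := by
  obtain ⟨t, ht⟩ := hm
  have hmod : ∀ q r : ℕ, f^[4 * q + r] = f^[r] := fun q r => by
    rw [Function.iterate_add, Function.iterate_mul, h4, Function.iterate_id, Function.id_comp]
  rcases Nat.even_or_odd' t with ⟨q, rfl | rfl⟩
  · rw [show m = 4 * q + 1 by omega, hmod, Function.iterate_one] at h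
    exact h
  · rw [show m = 4 * q + 3 by omega, hmod] at h
    have h' : f^[1 + 3] = f^[1] := by rw [Function.iterate_add, h, Function.comp_id]
    rw [show (1 + 3 : ℕ) = 4 by rfl, h4, Function.iterate_one] at h'
    exact h'.symm

/-- Over exponent two the product of an equivariant function is that over the fixed points, when
the central square `r * r` pairs or fixes with invariant values. -/
theorem prod_eq_fixed {U Ω M : Type*} [Group U] [Finite U] [MulAction U Ω] [Fintype Ω]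
    [CommGroup M] (hU : IsPGroup 2 U) (hM : ∀ m : M, m * m = 1) (τ : U →* MulAut M) (r : U)
    (hcen : ∀ u, u * (r * r) = r * r * u) (hinv : (r * r) * (r * r) = 1) (f : Ω → M)
    (heq : ∀ u ω, f (u • ω) = τ u (f ω))
    (hfix : ∀ ω, (r * r) • ω = ω → ∀ u, τ u (f ω) = f ω)
    (hpair : ∀ ω, ∀ u, τ u (f ω * τ (r * r) (f ω)) = f ω * τ (r * r) (f ω))
    [DecidablePred fun ω => ω ∈ fixedPoints U Ω] :
    ∏ ω, f ω = ∏ ω ∈ Finset.univ.filter (fun ω => ω ∈ fixedPoints U Ω), f ω := by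
  classical
  haveI : Fact (Nat.Prime 2) := ⟨Nat.prime_two⟩
  set z := r * r with hz
  have hpow : ∀ (m : M) (k : ℕ), Even k → m ^ k = 1 := by
    rintro m _ ⟨k, rfl⟩
    rw [← two_mul, pow_mul, sq, hM, one_pow]
  -- the product over an orbit
  have horbit : ∀ ω, ω ∉ fixedPoints U Ω →
      ∏ x ∈ (MulAction.orbit U ω).toFinset, f x = 1 := by
    intro ω hω
    set O := (MulAction.orbit U ω).toFinset with hO
    have hmem : ∀ x, x ∈ O ↔ ∃ u : U, u • ω = x := fun x => by
      rw [hO, Set.mem_toFinset, MulAction.mem_orbit_iff]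
    obtain ⟨k, hk⟩ := hU.card_orbit ω
    have hOk : O.card = 2 ^ k := by
      rw [hO, ← hk, Nat.card_eq_fintype_card, Set.toFinset_card]
    have hk0 : k ≠ 0 := by
      intro h
      refine hω fun u => ?_
      rw [h, pow_zero, Finset.card_eq_one] at hOk
      obtain ⟨a, ha⟩ := hOk
      have h1 : u • ω ∈ O := (hmem _).2 ⟨u, rfl⟩
      have h2 : ω ∈ O := (hmem _).2 ⟨1, one_smul _ _⟩
      rw [ha, Finset.mem_singleton] at h1 h2
      rw [h1, h2]
    have hEven : Even O.card := by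
      rw [hOk]
      exact (Nat.even_pow' hk0).2 even_two
    by_cases hzω : z • ω = ω
    · rw [Finset.prod_congr rfl (fun x hx => ?_), Finset.prod_const (f ω), hpow _ _ hEven]
      obtain ⟨u, rfl⟩ := (hmem x).1 hx
      rw [heq, hfix ω hzω]
    have hmove : ∀ x ∈ O, z • x ≠ x := by
      intro x hx h
      obtain ⟨u, rfl⟩ := (hmem x).1 hx
      rw [← mul_smul, ← hcen, mul_smul, smul_left_cancel_iff] at h
      exact hzω h
    have hk1 : k ≠ 1 := by
      intro h
      rw [h, pow_one, Finset.card_eq_two] at hOk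
      obtain ⟨a, b, hab, hOab⟩ := hOk
      have h1 : ω ∈ O := (hmem _).2 ⟨1, one_smul _ _⟩
      have h2 : z • ω ∈ O := (hmem _).2 ⟨z, rfl⟩
      have h3 : r • ω ∈ O := (hmem _).2 ⟨r, rfl⟩
      rw [hOab, Finset.mem_insert, Finset.mem_singleton] at h1 h2 h3
      have hcases : r • ω = ω ∨ r • ω = z • ω := by
        rcases h1 with e1 | e1 <;> rcases h2 with e2 | e2 <;> rcases h3 with e3 | e3 <;>
          first
          | exact Or.inl (e3.trans e1.symm)
          | exact Or.inr (e3.trans e2.symm)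
          | exact absurd (e2.trans e1.symm) hzω
      rcases hcases with e | e
      · exact hzω (by rw [hz, mul_smul, e, e])
      · refine hzω ?_
        calc z • ω = r • (r • ω) := by rw [← mul_smul]
          _ = r • (z • ω) := by rw [e]
          _ = z • (r • ω) := by rw [← mul_smul, hcen r, mul_smul]
          _ = ω := by rw [e, ← mul_smul, hinv, one_smul]
    -- halve the orbit
    set c := f ω * τ z (f ω) with hc
    have hconst : ∀ x ∈ O, f x * f (z • x) = c := by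
      intro x hx
      obtain ⟨u, rfl⟩ := (hmem x).1 hx
      rw [← mul_smul, ← hcen, mul_smul, heq, heq u (z • ω), heq z ω, ← map_mul, hpair ω u]
    let e := Fintype.equivFin Ω
    set O₁ := O.filter (fun x => e x < e (z • x)) with hO₁
    have hzO : ∀ x ∈ O, z • x ∈ O := fun x hx => by
      obtain ⟨u, rfl⟩ := (hmem x).1 hx
      exact (hmem _).2 ⟨z * u, mul_smul _ _ _⟩
    have hzz : ∀ x : Ω, z • (z • x) = x := fun x => by rw [← mul_smul, hinv, one_smul]
    have hcompl : O.filter (fun x => ¬ e x < e (z • x)) = O₁.image (z • ·) := by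
      ext x
      simp only [hO₁, Finset.mem_filter, Finset.mem_image]
      constructor
      · rintro ⟨hx, hlt⟩
        refine ⟨z • x, ⟨hzO x hx, ?_⟩, hzz x⟩
        rw [hzz]
        exact lt_of_le_of_ne (not_lt.1 hlt) fun h => hmove x hx (e.injective h)
      · rintro ⟨y, ⟨hy, hlt⟩, rfl⟩
        refine ⟨hzO y hy, ?_⟩
        rw [hzz]
        exact not_lt.2 hlt.le
    have hinj : Set.InjOn (fun x : Ω => z • x) (O₁ : Set Ω) :=
      fun a _ b _ h => smul_left_cancel z h
    have hcard : O.card = 2 * O₁.card := by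
      rw [← Finset.card_filter_add_card_filter_not (s := O) (fun x => e x < e (z • x)), hcompl,
        Finset.card_image_of_injOn hinj, ← hO₁, two_mul]
    rw [← Finset.prod_filter_mul_prod_filter_not O (fun x => e x < e (z • x)), hcompl,
      Finset.prod_image hinj, ← hO₁, ← Finset.prod_mul_distrib,
      Finset.prod_congr rfl (fun x hx => hconst x (Finset.mem_filter.1 hx).1), Finset.prod_const]
    refine hpow _ _ (even_iff_two_dvd.2 ?_)
    obtain ⟨j, hj⟩ := Nat.exists_eq_add_of_le (show 2 ≤ k by omega)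
    rw [hj, pow_add] at hOk
    norm_num at hOk
    exact ⟨2 ^ j, by rw [← hO₁]; omega⟩
  -- peel off the orbits
  have key : ∀ n : ℕ, ∀ s : Finset Ω, s.card ≤ n → (∀ u : U, ∀ x ∈ s, u • x ∈ s) →
      ∏ x ∈ s, f x = ∏ x ∈ s.filter (fun x => x ∈ fixedPoints U Ω), f x := by
    intro n
    induction n with
    | zero =>
      intro s hs _
      rw [Finset.card_eq_zero.1 (Nat.le_zero.1 hs), Finset.filter_empty]
    | succ n ih =>
      intro s hs hsU
      by_cases hall : ∀ x ∈ s, x ∈ fixedPoints U Ω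
      · rw [Finset.filter_true_of_mem hall]
      push Not at hall
      obtain ⟨ω, hω, hωn⟩ := hall
      set O := (MulAction.orbit U ω).toFinset with hO
      have hsub : O ⊆ s := fun x hx => by
        rw [hO, Set.mem_toFinset, MulAction.mem_orbit_iff] at hx
        obtain ⟨u, rfl⟩ := hx
        exact hsU u ω hω
      have hωO : ω ∈ O := by rw [hO, Set.mem_toFinset]; exact MulAction.mem_orbit_self ω
      have hfilter : s.filter (fun x => x ∈ fixedPoints U Ω) =
          (s \ O).filter (fun x => x ∈ fixedPoints U Ω) := by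
        ext x
        simp only [Finset.mem_filter, Finset.mem_sdiff]
        refine ⟨fun h => ⟨⟨h.1, fun hx => hωn ?_⟩, h.2⟩, fun h => ⟨h.1.1, h.2⟩⟩
        rw [hO, Set.mem_toFinset, MulAction.mem_orbit_iff] at hx
        obtain ⟨u, hu⟩ := hx
        have h2 : u⁻¹ • x = ω := by rw [← hu, inv_smul_smul]
        rw [h.2 u⁻¹] at h2
        exact h2 ▸ h.2
      rw [← Finset.prod_sdiff hsub, horbit ω hωn, mul_one, hfilter]
      refine ih _ ?_ fun u x hx => ?_
      · have hlt : (s \ O).card < s.card := Finset.card_lt_card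
          (Finset.sdiff_ssubset hsub ⟨ω, hωO⟩)
        omega
      · rw [Finset.mem_sdiff] at hx ⊢
        refine ⟨hsU u x hx.1, fun h => hx.2 ?_⟩
        rw [hO, Set.mem_toFinset, MulAction.mem_orbit_iff] at h ⊢
        obtain ⟨u', h'⟩ := h
        exact ⟨u⁻¹ * u', by rw [mul_smul, h', inv_smul_smul]⟩
  exact key _ Finset.univ le_rfl fun _ _ _ => Finset.mem_univ _

universe u

variable {G : Type u} [Group G]

namespace Ctx

variable [Finite G] (C : Ctx G)

theorem T_le_normalizer : (C.T : Subgroup G) ≤ normalizer (C.A : Set G) :=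
  C.le_normalizer C.T.isPGroup' C.A_le_T

theorem ρ_mem_T (x : Fin 8) : C.ρ x ∈ (C.T : Subgroup G) := C.hT ▸ C.toFrame.ρ_mem x

/-- An element of odd order normalizing `A` and the Sylow subgroup centralizes `A`. -/
theorem odd_centralizes {n : G} (hA : n ∈ normalizer (C.A : Set G))
    (hT : n ∈ normalizer ((C.T : Subgroup G) : Set G)) {m : ℕ} (hm : Odd m) (hnm : n ^ m = 1)
    {a : G} (ha : a ∈ C.A) : n * a * n⁻¹ = a := by
  have hφ : ∀ v : Fin 64, ∃ w, C.ι w = n * C.ι v * n⁻¹ := fun v =>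
    C.toFrame.mem_A.1 (C.conj_A hA (C.toFrame.ι_mem v))
  have hσ : ∀ x : Fin 8, ∃ y w, n * C.ρ x * n⁻¹ = C.ι w * C.ρ y := fun x => by
    obtain ⟨w, y, e⟩ := C.nf ((mem_normalizer_iff.1 hT _).1 (C.ρ_mem_T x))
    exact ⟨y, w, e⟩
  choose φ hφe using hφ
  choose σ ξ hσe using hσ
  have hadd : ∀ v w, φ (vadd v w) = vadd (φ v) (φ w) := fun v w => C.ι_inj (by
    rw [hφe, ← C.ι_mul, ← C.ι_mul, hφe, hφe]; group)
  have hφinj : Function.Injective φ := fun v w h => by
    have h' := congrArg C.ι h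
    rw [hφe, hφe] at h'
    exact C.ι_inj (mul_left_cancel (mul_right_cancel h'))
  have hφ0 : φ 0 = 0 := by
    have h := hadd 0 0
    rwa [vadd_self, vadd_self] at h
  have hσmul : ∀ x y, σ (mulU x y) = mulU (σ x) (σ y) := fun x y => by
    have h : n * C.ρ (mulU x y) * n⁻¹ = n * C.ρ x * n⁻¹ * (n * C.ρ y * n⁻¹) := by
      rw [← C.ρ_mul]; group
    rw [hσe, hσe, hσe, C.toFrame.nf_mul] at h
    exact (C.toFrame.nf_inj h).2
  have hσA : ∀ x, σ x = 0 → x = 0 := fun x h => by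
    have h' : n * C.ρ x * n⁻¹ ∈ C.A := by rw [hσe, h, C.toFrame.nf_mem_A]
    have h'' : C.ρ x ∈ C.A := (mem_normalizer_iff.1 hA _).2 h'
    obtain ⟨v, hv⟩ := h''
    by_contra hx
    exact C.ρ_notMem x hx v hv.symm
  have hσ0 : σ 0 = 0 := by
    have h := hσe 0
    rw [C.toFrame.ρ_zero, mul_one, mul_inv_cancel] at h
    exact (C.toFrame.nf_inj (v := 0) (x := 0)
      (by rw [← h, C.toFrame.ι_zero, C.toFrame.ρ_zero, one_mul])).2.symm
  have hσinj : ∀ x y, σ x = σ y → x = y := fun x y h => by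
    obtain ⟨z, hz1, -⟩ := mulU_inv y
    have h1 : σ (mulU x z) = 0 := by rw [hσmul, h, ← hσmul, hz1, hσ0]
    exact mulU_cancel x y z (hσA _ h1) hz1
  obtain ⟨h11, h22, h44, h77, h47, hne, hcen⟩ := mulU_facts
  have hσaut : ∀ x, σ x = autU (σ 4) (σ 7) x := fun x => by
    conv_lhs => rw [← autU_self x]
    simp only [autU, apply_ite σ, hσmul, hσ0]
  have hσid : ∀ x, σ x = x := by
    have h4 : σ^[4] = id := funext fun x => by
      show σ (σ (σ (σ x))) = x
      have h := autU_four (σ 4) (σ 7) (by rw [← hσmul, h44, hσ0]) (by rw [← hσmul, h77, hσ0])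
        (fun e => absurd (hσinj _ _ e) (by decide)) (fun e => hne (hσinj _ _ (by rw [hσmul, hσmul, e])))
        x
      rwa [← hσaut, ← hσaut, ← hσaut, ← hσaut] at h
    have hmid : σ^[m] = id := by
      have key : ∀ k : ℕ, ∀ x, ∃ w, n ^ k * C.ρ x * (n ^ k)⁻¹ = C.ι w * C.ρ (σ^[k] x) := by
        intro k
        induction k with
        | zero => intro x; exact ⟨0, by simp [C.toFrame.ι_zero]⟩
        | succ k ih =>
          intro x
          obtain ⟨w, hw⟩ := ih x
          refine ⟨vadd (φ w) (ξ (σ^[k] x)), ?_⟩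
          rw [Function.iterate_succ_apply', ← C.ι_mul, hφe, mul_assoc (n * C.ι w * n⁻¹),
            ← hσe, pow_succ', show n * n ^ k * C.ρ x * (n * n ^ k)⁻¹ =
              n * (n ^ k * C.ρ x * (n ^ k)⁻¹) * n⁻¹ by group, hw]
          group
      funext x
      obtain ⟨w, hw⟩ := key m x
      rw [hnm, one_mul, inv_one, mul_one] at hw
      exact (C.toFrame.nf_inj (v := 0) (x := x) (w := w) (y := σ^[m] x)
        ((by rw [C.toFrame.ι_zero, one_mul] : C.ι 0 * C.ρ x = C.ρ x).trans hw)).2.symm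
    exact fun x => congrFun (eq_id_of_iterate h4 hm hmid) x
  -- `φ` commutes with the action
  have hequiv : ∀ x v, φ (act x v) = act x (φ v) := fun x v => C.ι_inj (by
    rw [hφe, ← C.toFrame.conj_ι, show n * (C.ρ x * C.ι v * (C.ρ x)⁻¹) * n⁻¹ =
      n * C.ρ x * n⁻¹ * (n * C.ι v * n⁻¹) * (n * C.ρ x * n⁻¹)⁻¹ by group, hσe, hσid, ← hφe,
      C.toFrame.nf_conj])
  have hdlt : ∀ x v, φ (dlt x v) = dlt x (φ v) := fun x v => by rw [dlt, hadd, hequiv, dlt]
  obtain ⟨b1, b2, b3, b4, f4, f7⟩ := basis_values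
  have hφe' : ∀ v, φ v = endoV (φ 4) (φ 32) v := fun v => by
    conv_lhs => rw [← endoV_self v]
    simp only [endoV, hadd, apply_ite φ, hφ0, hdlt]
  have hid4 : ∀ i ∈ [(1 : Fin 64), 2, 4, 8, 16, 32], φ (φ (φ (φ i))) = i := by
    intro i hi
    have hne' : ∀ v : Fin 64, v ≠ 0 → endoV (φ 4) (φ 32) v ≠ 0 := fun v hv h =>
      hv (hφinj ((hφe' v).trans (h.trans hφ0.symm)))
    have h := endoV_four (φ 4) (φ 32) (by rw [← hequiv, f4]) (by rw [← hequiv, f7])
      (hne' 1 (by decide)) (hne' 8 (by decide)) (hne' 9 (by decide)) i hi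
    rwa [← hφe', ← hφe', ← hφe', ← hφe'] at h
  have h4 : φ^[4] = id := funext fun v => by
    show φ (φ (φ (φ v))) = v
    conv_lhs => rw [← endoV_self v]
    conv_rhs => rw [← endoV_self v]
    simp only [endoV, hadd, apply_ite φ, hφ0, b1, b2, b3, b4]
    simp [hid4]
  have hmid : φ^[m] = id := by
    have key : ∀ k : ℕ, ∀ v, C.ι (φ^[k] v) = n ^ k * C.ι v * (n ^ k)⁻¹ := by
      intro k
      induction k with
      | zero => intro v; simp
      | succ k ih => intro v; rw [Function.iterate_succ_apply', hφe, ih, pow_succ']; group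
    funext v
    refine C.ι_inj ?_
    rw [key m, hnm, one_mul, inv_one, mul_one]
    rfl
  obtain ⟨v, rfl⟩ := ha
  rw [← hφe, congrFun (eq_id_of_iterate h4 hm hmid) v]
  rfl

/-- An element normalizing `A` and the Sylow subgroup acts on `A` like one of the latter. -/
theorem exists_mem_T {n : G} (hA : n ∈ normalizer (C.A : Set G))
    (hT : n ∈ normalizer ((C.T : Subgroup G) : Set G)) :
    ∃ s ∈ (C.T : Subgroup G), ∀ a ∈ C.A, n * a * n⁻¹ = s * a * s⁻¹ := by
  haveI : Fact (Nat.Prime 2) := ⟨Nat.prime_two⟩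
  obtain ⟨e, m, hm, hem⟩ :=
    Nat.exists_eq_pow_mul_and_not_dvd (orderOf_pos n).ne' 2 (by norm_num)
  have hco : IsCoprime ((2 ^ e : ℕ) : ℤ) (m : ℤ) := Nat.isCoprime_iff_coprime.2 (by
    simpa using (Nat.prime_two.coprime_iff_not_dvd.2 hm).pow_left e)
  obtain ⟨α, β, hαβ⟩ := hco
  set n₁ := n ^ (β * m) with hn₁
  set n₂ := n ^ (α * (2 ^ e : ℕ)) with hn₂
  have hn : n = n₁ * n₂ := by
    rw [hn₁, hn₂, ← zpow_add, add_comm, hαβ, zpow_one]
  have hord : n ^ (((2 ^ e : ℕ) : ℤ) * (m : ℤ)) = 1 := by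
    rw [← Nat.cast_mul, ← hem, zpow_natCast, pow_orderOf_eq_one]
  have h1 : n₁ ^ (2 ^ e) = 1 := by
    rw [hn₁, ← zpow_natCast, ← zpow_mul,
      show β * (m : ℤ) * ((2 ^ e : ℕ) : ℤ) = ((2 ^ e : ℕ) : ℤ) * m * β by ring, zpow_mul, hord,
      one_zpow]
  have h2 : n₂ ^ m = 1 := by
    rw [hn₂, ← zpow_natCast, ← zpow_mul,
      show α * ((2 ^ e : ℕ) : ℤ) * (m : ℤ) = ((2 ^ e : ℕ) : ℤ) * m * α by ring, zpow_mul, hord,
      one_zpow]
  have hN₁ : n₁ ∈ normalizer ((C.T : Subgroup G) : Set G) := zpow_mem hT _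
  have hn₁T : n₁ ∈ (C.T : Subgroup G) := by
    have hp : IsPGroup 2 (zpowers n₁) := by
      intro x
      obtain ⟨k, hk⟩ := mem_zpowers_iff.1 x.2
      refine ⟨e, Subtype.ext ?_⟩
      rw [coe_pow, ← hk, ← zpow_natCast, ← zpow_mul, mul_comm, zpow_mul, zpow_natCast, h1, one_zpow]
      rfl
    have hsup : IsPGroup 2 ((C.T : Subgroup G) ⊔ zpowers n₁ : Subgroup G) :=
      IsPGroup.to_sup_of_normal_left' C.T.isPGroup' hp (zpowers_le.2 hN₁)
    exact (C.T.3 hsup le_sup_left).le (mem_sup_right (mem_zpowers n₁))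
  refine ⟨n₁, hn₁T, fun a ha => ?_⟩
  have h := C.odd_centralizes (zpow_mem hA (α * (2 ^ e : ℕ))) (zpow_mem hT _)
    (Nat.odd_iff.2 (Nat.two_dvd_ne_zero.1 hm)) h2 ha
  conv_lhs => rw [hn]
  rw [show n₁ * n₂ * a * (n₁ * n₂)⁻¹ = n₁ * (n₂ * a * n₂⁻¹) * n₁⁻¹ by group, h]

/-- `A` is the product of two invariant subgroups, neither centralized by the central involution
of the complement. -/
theorem exists_split : ∃ A₁ A₂ : Subgroup G, A₁ ≤ C.A ∧ A₂ ≤ C.A ∧
    (∀ n ∈ normalizer (C.A : Set G), ∀ a ∈ A₁, n * a * n⁻¹ ∈ A₁) ∧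
    (∀ n ∈ normalizer (C.A : Set G), ∀ a ∈ A₂, n * a * n⁻¹ ∈ A₂) ∧
    A₁ ⊓ A₂ = ⊥ ∧ (∀ a ∈ C.A, ∃ b ∈ A₁, ∃ c ∈ A₂, a = b * c) ∧
    (∃ a ∈ A₁, C.ρ 2 * a * (C.ρ 2)⁻¹ ≠ a) ∧ ∃ a ∈ A₂, C.ρ 2 * a * (C.ρ 2)⁻¹ ≠ a := by
  classical
  haveI : Fact (Nat.Prime 2) := ⟨Nat.prime_two⟩
  set N := normalizer (C.A : Set G) with hN
  letI : CommGroup C.A := { (inferInstance : Group C.A) with
    mul_comm := fun a b => Subtype.ext (C.toFrame.comm_of_mem a.2 b.2) }
  have hM : ∀ a : C.A, a * a = 1 := fun a => Subtype.ext (C.toFrame.sq_of_mem a.2)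
  let τ : N →* MulAut C.A := MonoidHom.mk'
    (fun n =>
      { toFun := fun x => ⟨n * x * (n : G)⁻¹, C.conj_A n.2 x.2⟩
        invFun := fun x => ⟨(n : G)⁻¹ * x * n, by
          have h := C.conj_A (inv_mem n.2) x.2
          rwa [inv_inv] at h⟩
        left_inv := fun x => Subtype.ext (by simp [mul_assoc])
        right_inv := fun x => Subtype.ext (by simp [mul_assoc])
        map_mul' := fun x y => Subtype.ext (by simp [mul_assoc]) })
    fun n m => MulEquiv.ext fun x => Subtype.ext (by simp [mul_assoc])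
  have hτ : ∀ (n : N) (x : C.A), ((τ n x : C.A) : G) = n * x * (n : G)⁻¹ := fun _ _ => rfl
  -- the projection
  have hco : ∀ a : C.A, ∃ v, C.ι v = a := fun a => C.toFrame.mem_A.1 a.2
  choose co hcoe using hco
  have hcoι : ∀ v, co ⟨C.ι v, C.toFrame.ι_mem v⟩ = v := fun v => C.ι_inj (hcoe _)
  have hcomul : ∀ a b : C.A, co (a * b) = vadd (co a) (co b) := fun a b => C.ι_inj (by
    rw [hcoe, ← C.ι_mul, hcoe, hcoe, Subgroup.coe_mul])
  let e0 : C.A →* C.A := MonoidHom.mk' (fun a => ⟨C.ι (proj (co a)), C.toFrame.ι_mem _⟩)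
    fun a b => Subtype.ext (by
      show C.ι (proj (co (a * b))) = C.ι (proj (co a)) * C.ι (proj (co b))
      rw [hcomul, proj_vadd, C.ι_mul])
  have he0 : ∀ v, ((e0 ⟨C.ι v, C.toFrame.ι_mem v⟩ : C.A) : G) = C.ι (proj v) := fun v => by
    show C.ι (proj (co _)) = _
    rw [hcoι]
  have he0T : ∀ (s : N), (s : G) ∈ (C.T : Subgroup G) → ∀ a, τ s (e0 a) = e0 (τ s a) := by
    intro s hs a
    obtain ⟨v, x, hvx⟩ := C.nf hs
    obtain ⟨a, w, rfl⟩ := a
    refine Subtype.ext ?_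
    have h1 : τ s ⟨C.ι w, C.toFrame.ι_mem w⟩ = ⟨C.ι (act x w), C.toFrame.ι_mem _⟩ :=
      Subtype.ext (by rw [hτ, hvx, C.toFrame.nf_conj])
    rw [hτ, he0, h1, he0, hvx, C.toFrame.nf_conj, proj_act]
  set TN := (C.T : Subgroup G).subgroupOf N with hTN
  have hTle : (C.T : Subgroup G) ≤ N := C.T_le_normalizer
  letI : Fintype (N ⧸ TN) := Fintype.ofFinite _
  have hττ : ∀ (g h : N) (b : C.A), τ g (τ h b) = τ (g * h) b := fun g h b => by
    rw [map_mul, MulAut.mul_apply]
  let P : N → (C.A →* C.A) := fun g => (τ g).toMonoidHom.comp (e0.comp (τ g⁻¹).toMonoidHom)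
  have hP : ∀ g (a : C.A), P g a = τ g (e0 (τ g⁻¹ a)) := fun _ _ => rfl
  have hPs : ∀ (g s : N), (s : G) ∈ (C.T : Subgroup G) → ∀ a, P (g * s) a = P g a := by
    intro g s hs a
    rw [hP, hP, _root_.mul_inv_rev, ← hττ g s, ← hττ s⁻¹ g⁻¹, he0T s hs, hττ s, mul_inv_cancel,
      map_one, MulAut.one_apply]
  have hPcl : ∀ (g g' : N), (g : N ⧸ TN) = g' → ∀ a, P g a = P g' a := by
    intro g g' h a
    have hs0 : g⁻¹ * g' ∈ TN := QuotientGroup.eq.1 h
    have hs : ((g⁻¹ * g' : N) : G) ∈ (C.T : Subgroup G) := hs0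
    rw [show g' = g * (g⁻¹ * g') by group, hPs g _ hs]
  have hPh : ∀ (h g : N) (a : C.A), τ h (P g a) = P (h * g) (τ h a) := by
    intro h g a
    rw [hP, hP, _root_.mul_inv_rev, ← hττ g⁻¹ h⁻¹, hττ h⁻¹ h, inv_mul_cancel, map_one,
      MulAut.one_apply, hττ h g]
  let E : C.A →* C.A := ∏ ω : N ⧸ TN, P ω.out
  have hE : ∀ a, E a = ∏ ω : N ⧸ TN, P ω.out a := fun a => MonoidHom.finsetProd_apply _ _ _
  have hout : ∀ (h : N) (ω : N ⧸ TN), ((h * ω.out : N) : N ⧸ TN) = h • ω := fun h ω => by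
    conv_rhs => rw [← QuotientGroup.out_eq' ω]
    rfl
  have hPω : ∀ (h : N) (ω : N ⧸ TN) (a : C.A), P (h • ω).out a = P (h * ω.out) a := fun h ω a =>
    hPcl _ _ (by rw [QuotientGroup.out_eq', hout]) a
  have hEh : ∀ (h : N) (a : C.A), τ h (E a) = E (τ h a) := by
    intro h a
    rw [hE, hE, map_prod]
    refine Fintype.prod_equiv (MulAction.toPerm h) _ _ fun ω => ?_
    rw [hPh, MulAction.toPerm_apply, hPω]
  -- on the commutators of the central involution it is the projection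
  let U : Subgroup N :=
    { carrier := {g | ∃ x, (g : G) = C.ρ x}
      one_mem' := ⟨0, C.toFrame.ρ_zero.symm⟩
      mul_mem' := by
        rintro g g' ⟨x, hx⟩ ⟨y, hy⟩
        exact ⟨mulU x y, by rw [Subgroup.coe_mul, hx, hy, C.ρ_mul]⟩
      inv_mem' := by
        rintro g ⟨x, hx⟩
        obtain ⟨y, hy, -⟩ := mulU_inv x
        exact ⟨y, by
          rw [Subgroup.coe_inv, hx]
          exact inv_eq_of_mul_eq_one_right (by rw [C.ρ_mul, hy, C.toFrame.ρ_zero])⟩ }
  let ρN : Fin 8 → U := fun x => ⟨⟨C.ρ x, hTle (C.ρ_mem_T x)⟩, x, rfl⟩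
  have hUp : IsPGroup 2 U := by
    have h : U ≤ TN := fun g ⟨x, hx⟩ => by
      rw [hTN, mem_subgroupOf, hx]; exact C.ρ_mem_T x
    exact (C.T.isPGroup'.of_equiv (subgroupOfEquivOfLe hTle).symm).to_le h
  obtain ⟨h11, h22, -, -, -, -, hcen⟩ := mulU_facts
  have hρρ : ∀ x y, ρN x * ρN y = ρN (mulU x y) := fun x y =>
    Subtype.ext (Subtype.ext (C.ρ_mul x y))
  have hUsurj : ∀ u : U, ∃ x, u = ρN x := fun u => by
    obtain ⟨x, hx⟩ := u.2
    exact ⟨x, Subtype.ext (Subtype.ext hx)⟩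
  have hodd : ¬ 2 ∣ Nat.card (N ⧸ TN) := fun h =>
    C.T.not_dvd_index (h.trans ((index_eq_card TN).symm.dvd.trans
      (relIndex_dvd_index_of_le hTle)))
  have hfixed : ∀ ω : N ⧸ TN, ω ∈ fixedPoints U (N ⧸ TN) → ∀ a, P ω.out a = e0 a := by
    intro ω hω a
    set g := ω.out with hg
    have hgT : ∀ t ∈ (C.T : Subgroup G), ((g : N) : G)⁻¹ * t * g ∈ (C.T : Subgroup G) := by
      intro t ht
      obtain ⟨v, x, rfl⟩ := C.nf ht
      have h1 : (g : G)⁻¹ * C.ι v * g ∈ (C.T : Subgroup G) := by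
        refine C.A_le_T ?_
        have h := C.conj_A (inv_mem g.2) (C.toFrame.ι_mem v)
        rwa [inv_inv] at h
      have h2 : (g : G)⁻¹ * C.ρ x * g ∈ (C.T : Subgroup G) := by
        have h : ((ρN x : N) * g : N) = ((ω.out : N) : N ⧸ TN) := by
          rw [hout, QuotientGroup.out_eq']
          exact hω (ρN x)
        have h0 : (g : N)⁻¹ * ((ρN x : N) * g) ∈ TN := QuotientGroup.eq.1 h.symm
        have h' : (((g : N)⁻¹ * ((ρN x : N) * g) : N) : G) ∈ (C.T : Subgroup G) := h0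
        rw [mul_assoc]
        exact h'
      rw [show (g : G)⁻¹ * (C.ι v * C.ρ x) * g =
        (g : G)⁻¹ * C.ι v * g * ((g : G)⁻¹ * C.ρ x * g) by group]
      exact mul_mem h1 h2
    have hgN : (g : G) ∈ normalizer ((C.T : Subgroup G) : Set G) := by
      refine (inv_mem_iff).1 (mem_normalizer_of_cj_eq (eq_of_le_of_card_ge ?_ (card_cj _ _).ge))
      rintro _ ⟨t, ht, rfl⟩
      simpa using hgT t ht
    obtain ⟨s, hs, hse⟩ := C.exists_mem_T g.2 hgN
    have hτs : ∀ b, τ g b = τ ⟨s, hTle hs⟩ b := fun b => Subtype.ext (by rw [hτ, hτ]; exact hse b b.2)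
    rw [hP]
    have hinv : ∀ b, τ g⁻¹ b = τ (⟨s, hTle hs⟩ : N)⁻¹ b := fun b => by
      refine (τ g).injective ?_
      conv_rhs => rw [hτs]
      rw [hττ, hττ, mul_inv_cancel, mul_inv_cancel]
    rw [hτs, hinv, he0T ⟨s, hTle hs⟩ hs, hττ, mul_inv_cancel, map_one, MulAut.one_apply]
  have hfixv : ∀ (v : Fin 64) (u : U), (∀ x, act x v = v) →
      τ (u : N) ⟨C.ι v, C.toFrame.ι_mem v⟩ = ⟨C.ι v, C.toFrame.ι_mem v⟩ := by
    intro v u hv
    obtain ⟨x, rfl⟩ := hUsurj u
    refine Subtype.ext ?_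
    show C.ρ x * C.ι v * (C.ρ x)⁻¹ = C.ι v
    rw [C.toFrame.conj_ι, hv]
  have hcomfix : ∀ w x, act x (dlt 2 w) = dlt 2 w := fun w x =>
    (fixed_all _).2 (dlt_central w) x
  have hE0 : ∀ w, E ⟨C.ι (dlt 2 w), C.toFrame.ι_mem _⟩ = e0 ⟨C.ι (dlt 2 w), C.toFrame.ι_mem _⟩ := by
    intro w
    set a : C.A := ⟨C.ι (dlt 2 w), C.toFrame.ι_mem _⟩ with ha
    have hua : ∀ u : U, τ (u : N) a = a := fun u => hfixv _ u (hcomfix w)
    set r : U := ρN 1
    have hrr : r * r = ρN 2 := by rw [hρρ, h11]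
    have hzc : ∀ b : C.A, ∀ u : U, τ (u : N) (b * τ ((r * r : U) : N) b) =
        b * τ ((r * r : U) : N) b := by
      intro b u
      obtain ⟨v, hv⟩ := C.toFrame.mem_A.1 b.2
      have hb : b * τ ((r * r : U) : N) b = ⟨C.ι (dlt 2 v), C.toFrame.ι_mem _⟩ := by
        refine Subtype.ext ?_
        rw [hrr, Subgroup.coe_mul, hτ, ← hv]
        show C.ι v * (C.ρ 2 * C.ι v * (C.ρ 2)⁻¹) = C.ι (dlt 2 v)
        rw [C.toFrame.conj_ι, C.ι_mul, vadd_comm]
        rfl
      rw [hb]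
      exact hfixv _ u (hcomfix v)
    show E a = e0 a
    rw [hE, prod_eq_fixed (U := U) (Ω := N ⧸ TN) hUp hM (τ.comp U.subtype) r
      (fun u => by
        obtain ⟨x, rfl⟩ := hUsurj u
        rw [hrr, hρρ, hρρ, hcen])
      (by rw [hrr, hρρ, h22]; exact Subtype.ext (Subtype.ext C.toFrame.ρ_zero))
      (fun ω : N ⧸ TN => P ω.out a)
      (fun u ω => by
        show P ((u : N) • ω).out a = τ (u : N) (P ω.out a)
        rw [hPω, hPh, hua])
      (fun ω hω u => ?_) (fun ω u => hzc _ u)]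
    · rw [Finset.prod_congr rfl (fun ω hω => hfixed ω (Finset.mem_filter.1 hω).2 a),
        Finset.prod_const]
      have hc : Odd (Finset.univ.filter fun ω => ω ∈ fixedPoints U (N ⧸ TN)).card := by
        have h := hUp.card_modEq_card_fixedPoints (N ⧸ TN)
        rw [Nat.card_eq_fintype_card (α := fixedPoints U (N ⧸ TN)), Fintype.card_subtype] at h
        rw [Nat.odd_iff]
        have := Nat.two_dvd_ne_zero.1 hodd
        rw [Nat.ModEq, this] at h
        exact h.symm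
      obtain ⟨t, ht⟩ := hc
      rw [ht, pow_succ, pow_mul, sq, hM, one_pow, one_mul]
    · -- a coset fixed by the central involution
      set g := ω.out with hg
      set zN : N := ((r * r : U) : N) with hzN
      have hs : ((g⁻¹ * (zN * g) : N) : G) ∈ (C.T : Subgroup G) := by
        show g⁻¹ * (zN * g) ∈ TN
        refine QuotientGroup.eq.1 ?_
        rw [hout, QuotientGroup.out_eq']
        exact hω.symm
      set s := g⁻¹ * (zN * g) with hsdef
      set b : C.A := τ g⁻¹ ⟨C.ι w, C.toFrame.ι_mem w⟩ with hb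
      have hzw : a = ⟨C.ι w, C.toFrame.ι_mem w⟩ * τ zN ⟨C.ι w, C.toFrame.ι_mem w⟩ := by
        refine Subtype.ext ?_
        rw [ha, hzN, hrr, Subgroup.coe_mul, hτ]
        show C.ι (dlt 2 w) = C.ι w * (C.ρ 2 * C.ι w * (C.ρ 2)⁻¹)
        rw [C.toFrame.conj_ι, C.ι_mul, vadd_comm w]
        rfl
      have hfω : P g a = τ g (e0 b) * τ zN (τ g (e0 b)) := by
        rw [hP, hzw, map_mul (τ g⁻¹), ← hb,
          show τ g⁻¹ (τ zN ⟨C.ι w, C.toFrame.ι_mem w⟩) = τ s b by
            rw [hb, hsdef, hττ, hττ]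
            congr 2
            group,
          map_mul e0, ← he0T s hs, map_mul (τ g), hττ g s, hττ zN g, hsdef]
        congr 3
        group
      show τ (u : N) (P g a) = P g a
      rw [hfω, hzN]
      exact hzc _ u
  -- an idempotent power
  obtain ⟨M₀, hM₀, hidem⟩ : ∃ M₀ : ℕ, 0 < M₀ ∧ ∀ a, (⇑E)^[M₀] ((⇑E)^[M₀] a) = (⇑E)^[M₀] a := by
    obtain ⟨i, j, hij, hEij⟩ :=
      Finite.exists_ne_map_eq_of_infinite (fun k : ℕ => ((⇑E)^[k] : C.A → C.A))
    wlog hlt : i < j generalizing i j with H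
    · exact H j i hij.symm hEij.symm (by omega)
    set d := j - i with hd
    have hper : ∀ k, i ≤ k → ∀ t, ((⇑E)^[k + t * d] : C.A → C.A) = (⇑E)^[k] := by
      intro k hk t
      induction t with
      | zero => simp
      | succ t ih =>
        rw [show k + (t + 1) * d = (k - i + t * d) + j by rw [Nat.succ_mul]; omega,
          Function.iterate_add, ← hEij, ← Function.iterate_add,
          show k - i + t * d + i = k + t * d by omega, ih]
    refine ⟨(i + 1) * d, Nat.mul_pos (by omega) (by omega), fun a => ?_⟩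
    rw [← Function.iterate_add_apply, hper ((i + 1) * d)
      (le_trans (by omega) (Nat.le_mul_of_pos_right _ (by omega))) (i + 1)]
  let R : C.A →* C.A :=
    { toFun := (⇑E)^[M₀]
      map_one' := Function.iterate_fixed (map_one E) M₀
      map_mul' := iterate_map_mul E M₀ }
  have hR : ∀ a, R (R a) = R a := hidem
  have hRh : ∀ (h : N) (a : C.A), τ h (R a) = R (τ h a) := by
    intro h a
    have hcomm : Function.Commute (⇑(τ h)) (⇑E) := fun x => hEh h x
    exact (hcomm.iterate_right M₀).eq a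
  have hconj : ∀ (A' : Subgroup C.A), (∀ h b, b ∈ A' → τ h b ∈ A') →
      ∀ n ∈ N, ∀ a ∈ A'.map C.A.subtype, n * a * n⁻¹ ∈ A'.map C.A.subtype := by
    rintro A' hA' n hn _ ⟨b, hb, rfl⟩
    exact ⟨τ ⟨n, hn⟩ b, hA' _ b hb, rfl⟩
  have hdisj : R.range ⊓ R.ker = ⊥ := by
    refine eq_bot_iff.2 fun a ha => ?_
    obtain ⟨⟨b, rfl⟩, h⟩ := Subgroup.mem_inf.1 ha
    rw [MonoidHom.mem_ker, hR] at h
    rw [Subgroup.mem_bot, h]
  have hdec : ∀ a : C.A, R a * a ∈ R.ker := fun a => by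
    rw [MonoidHom.mem_ker, map_mul, hR, hM]
  -- the images of the two fixed vectors
  obtain ⟨⟨hd4, hd32⟩, hp1, hp8, -⟩ := central_values
  have hR1 : R ⟨C.ι 1, C.toFrame.ι_mem 1⟩ = ⟨C.ι 1, C.toFrame.ι_mem 1⟩ := by
    refine Function.iterate_fixed ?_ M₀
    have h := hE0 4
    simp only [hd4] at h
    rw [h]
    exact Subtype.ext (by rw [he0, hp1])
  have hR8 : R ⟨C.ι 8, C.toFrame.ι_mem 8⟩ = 1 := by
    have h : E ⟨C.ι 8, C.toFrame.ι_mem 8⟩ = 1 := by
      have h := hE0 32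
      simp only [hd32] at h
      rw [h]
      exact Subtype.ext (by rw [he0, hp8, C.toFrame.ι_zero]; rfl)
    show (⇑E)^[M₀] _ = 1
    obtain ⟨k, rfl⟩ : ∃ k, M₀ = k + 1 := ⟨M₀ - 1, by omega⟩
    rw [Function.iterate_succ_apply, h]
    exact Function.iterate_fixed (map_one E) k
  have hzcomm : ∀ v, (⟨C.ι v, C.toFrame.ι_mem v⟩ : C.A) * τ ((ρN 2 : U) : N) ⟨C.ι v, C.toFrame.ι_mem v⟩ =
      ⟨C.ι (dlt 2 v), C.toFrame.ι_mem _⟩ := fun v => Subtype.ext (by
    rw [Subgroup.coe_mul, hτ]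
    show C.ι v * (C.ρ 2 * C.ι v * (C.ρ 2)⁻¹) = C.ι (dlt 2 v)
    rw [C.toFrame.conj_ι, C.ι_mul, vadd_comm v]
    rfl)
  refine ⟨R.range.map C.A.subtype, R.ker.map C.A.subtype, map_subtype_le _, map_subtype_le _,
    hconj _ (fun h b ⟨c, hc⟩ => ⟨τ h c, by rw [← hRh, hc]⟩),
    hconj _ (fun h b hb => by
      rw [MonoidHom.mem_ker] at hb ⊢
      rw [← hRh, hb, map_one]), ?_, fun a ha => ?_, ?_, ?_⟩
  · rw [← Subgroup.map_inf _ _ _ C.A.subtype_injective, hdisj, Subgroup.map_bot]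
  · refine ⟨_, ⟨R ⟨a, ha⟩, ⟨_, rfl⟩, rfl⟩, _, ⟨_, hdec ⟨a, ha⟩, rfl⟩, ?_⟩
    rw [← map_mul, ← mul_assoc, hM, one_mul]
    rfl
  · by_contra hall
    push Not at hall
    -- then the first fixed vector would lie in the second half
    set x : C.A := ⟨C.ι 4, C.toFrame.ι_mem 4⟩
    set zN : N := ((ρN 2 : U) : N)
    have hzR : τ zN (R x) = R x := Subtype.ext (hall _ ⟨R x, ⟨x, rfl⟩, rfl⟩)
    have h := hzcomm 4
    simp only [hd4] at h
    have h' := hR1
    rw [← h, map_mul, ← hRh, hzR, hM] at h'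
    have h1 := (h'.trans h).symm
    have h2 : C.ι 1 = 1 := congrArg Subtype.val h1
    exact absurd (C.toFrame.ι_eq_one.1 h2) (by decide)
  · by_contra hall
    push Not at hall
    set x : C.A := ⟨C.ι 32, C.toFrame.ι_mem 32⟩
    set zN : N := ((ρN 2 : U) : N)
    have hzK : τ zN (R x * x) = R x * x := Subtype.ext (hall _ ⟨_, hdec x, rfl⟩)
    have h := hzcomm 32
    simp only [hd32] at h
    have h' := hR8
    rw [← h, map_mul, ← hRh] at h'
    rw [map_mul] at hzK
    have h1 : x * τ zN x = 1 := by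
      have h3 : τ zN (R x) = R x := by
        calc τ zN (R x) = R x * R x * τ zN (R x) := by rw [hM, one_mul]
          _ = R x * (R x * τ zN (R x)) := mul_assoc _ _ _
          _ = R x := by rw [h', mul_one]
      rw [h3] at hzK
      rw [mul_left_cancel hzK, hM]
    rw [h] at h1
    exact absurd (C.toFrame.ι_eq_one.1 (congrArg Subtype.val h1)) (by decide)

end Ctx

end CfsgLib.M24Type
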